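import Cfsg.Agent.Lib.Dickson.Maximal.Odd

/-!
# The special part of `PGL(2, q)`, `q` odd
-/

set_option autoImplicit false
set_option linter.unusedSectionVars false

open Matrix
open scoped MatrixGroups

namespace Cfsg.Lib.Dickson

variable {F : Type*} [Field F] [Fintype F]

local notation "SL2" => Matrix.SpecialLinearGroup (Fin 2) F
local notation "PSL2" => Matrix.ProjectiveSpecialLinearGroup (Fin 2) F
local notation "PGL2" => Matrix.ProjGenLinGroup (Fin 2) F

/-- The image of `PSL(2, F)` in `PGL(2, F)`. -/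
abbrev pslIn (F : Type*) [Field F] : Subgroup (Matrix.ProjGenLinGroup (Fin 2) F) :=
  (ProjectiveSpecialLinearGroup.toPGL :
    Matrix.ProjectiveSpecialLinearGroup (Fin 2) F →* Matrix.ProjGenLinGroup (Fin 2) F).range

theorem range_comp_toGL_eq :
    (Matrix.ProjGenLinGroup.mk.comp (Matrix.SpecialLinearGroup.toGL (n := Fin 2) (R := F))).range = pslIn F := by
  ext z
  constructor
  · rintro ⟨g, rfl⟩
    exact ⟨QuotientGroup.mk g, ProjectiveSpecialLinearGroup.toPGL_mk g⟩
  · rintro ⟨x, rfl⟩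
    obtain ⟨g, rfl⟩ := QuotientGroup.mk_surjective x
    exact ⟨g, (ProjectiveSpecialLinearGroup.toPGL_mk g).symm⟩

instance finite_pgl_two : Finite (Matrix.ProjGenLinGroup (Fin 2) F) :=
  Finite.of_surjective _ ProjGenLinGroup.mk_surjective

theorem mk_mem_pslIn_iff (U : GL (Fin 2) F) :
    ProjGenLinGroup.mk U ∈ pslIn F ↔ IsSquare ((U : Matrix (Fin 2) (Fin 2) F).det) := by
  constructor
  · rintro ⟨x, hx⟩
    obtain ⟨g, rfl⟩ := QuotientGroup.mk_surjective x
    rw [ProjectiveSpecialLinearGroup.toPGL_mk] at hx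
    obtain ⟨r, hr⟩ := ProjGenLinGroup.mk_eq_mk_iff.mp hx.symm
    refine ⟨((r⁻¹ : Fˣ) : F), ?_⟩
    have := congrArg (fun z : GL (Fin 2) F => (z : Matrix (Fin 2) (Fin 2) F).det) hr
    simp [SpecialLinearGroup.toGL, GeneralLinearGroup.coe_scalar, Matrix.det_mul] at this
    have hr0 : (r : F) ≠ 0 := r.ne_zero
    rw [Units.val_inv_eq_inv_val]
    field_simp
    linear_combination this
  · rintro ⟨s, hs⟩
    have hs0 : s ≠ 0 := by
      rintro rfl
      rw [mul_zero] at hs
      exact (Matrix.GeneralLinearGroup.det U).ne_zero hs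
    refine ⟨QuotientGroup.mk (⟨s⁻¹ • (U : Matrix (Fin 2) (Fin 2) F), ?_⟩ : SL(2, F)), ?_⟩
    · rw [Matrix.det_smul, hs, Fintype.card_fin]
      field_simp
    · refine (ProjectiveSpecialLinearGroup.toPGL_mk _).trans ?_
      rw [ProjGenLinGroup.mk_eq_mk_iff]
      refine ⟨Units.mk0 s hs0, Units.ext ?_⟩
      rw [Units.val_mul, GeneralLinearGroup.coe_scalar]
      show (s⁻¹ • (U : Matrix (Fin 2) (Fin 2) F)) * Matrix.scalar (Fin 2) s = U
      rw [Matrix.scalar_apply, ← Matrix.smul_one_eq_diagonal, Matrix.smul_mul, Matrix.mul_smul, mul_one, smul_smul,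
        inv_mul_cancel₀ hs0, one_smul]

theorem index_pslIn (hodd : Fintype.card F % 2 = 1) : (pslIn F).index = 2 := by
  have h1 : Nat.card (pslIn F) = Nat.card PSL2 :=
    (Nat.card_congr (MonoidHom.ofInjective ProjectiveSpecialLinearGroup.toPGL_injective).toEquiv).symm
  have h2 := Subgroup.card_mul_index (pslIn F)
  rw [h1, card_PGL_two_eq, ← card_psl_mul hodd, mul_comm 2] at h2
  exact Nat.eq_of_mul_eq_mul_left Nat.card_pos h2

/-- The part of a subgroup of `PGL(2, F)` inside `PSL(2, F)`. -/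
abbrev pslPart (M : Subgroup (Matrix.ProjGenLinGroup (Fin 2) F)) :
    Subgroup (Matrix.ProjectiveSpecialLinearGroup (Fin 2) F) :=
  M.comap ProjectiveSpecialLinearGroup.toPGL

theorem map_pslPart (M : Subgroup (Matrix.ProjGenLinGroup (Fin 2) F)) :
    (pslPart M).map ProjectiveSpecialLinearGroup.toPGL = pslIn F ⊓ M :=
  Subgroup.map_comap_eq _ _

/-- The part inside `PSL(2, F)` as a subgroup of the subgroup. -/
noncomputable def pslPartEquiv (M : Subgroup (Matrix.ProjGenLinGroup (Fin 2) F)) :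
    pslPart M ≃* (pslIn F).subgroupOf M :=
  MulEquiv.ofBijective (F := pslPart M →* (pslIn F).subgroupOf M)
    { toFun := fun g => ⟨⟨ProjectiveSpecialLinearGroup.toPGL (g : PSL2), g.2⟩, ⟨(g : PSL2), rfl⟩⟩
      map_one' := Subtype.ext (Subtype.ext (map_one _))
      map_mul' := fun a b => Subtype.ext (Subtype.ext (map_mul _ _ _)) }
    ⟨fun a b h => Subtype.ext (ProjectiveSpecialLinearGroup.toPGL_injective
        (congrArg (fun z : (pslIn F).subgroupOf M => ((z : M) : PGL2)) h)), by
      rintro ⟨⟨z, hz⟩, g, hg⟩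
      exact ⟨⟨g, show ProjectiveSpecialLinearGroup.toPGL g ∈ M from hg.symm ▸ hz⟩, Subtype.ext (Subtype.ext hg)⟩⟩

theorem mem_normalizer_of_conj_mem {G : Type*} [Group G] [Finite G] {K : Subgroup G} {g : G}
    (h : ∀ z ∈ K, g * z * g⁻¹ ∈ K) : g ∈ Subgroup.normalizer (K : Set G) := by
  have hmap : K.map (MulAut.conj g).toMonoidHom = K := by
    refine Subgroup.eq_of_le_of_card_ge ?_ (le_of_eq ?_)
    · rintro _ ⟨z, hz, rfl⟩; exact h z hz
    · exact Nat.card_congr (K.equivMapOfInjective _ (MulAut.conj _).injective).toEquiv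
  rw [Subgroup.mem_normalizer_iff]
  intro z
  refine ⟨h z, fun hz => ?_⟩
  rw [← hmap] at hz
  obtain ⟨w, hw, hwz⟩ := hz
  rwa [show w = z from (MulAut.conj g).injective hwz] at hw

theorem mem_normalizer_zpowers {G : Type*} [Group G] [Finite G] {x g : G}
    (h : g * x * g⁻¹ = x ∨ g * x * g⁻¹ = x⁻¹) : g ∈ Subgroup.normalizer (Subgroup.zpowers x : Set G) := by
  refine mem_normalizer_of_conj_mem ?_
  rintro _ ⟨i, rfl⟩
  show g * x ^ i * g⁻¹ ∈ _
  rw [← conj_zpow]
  rcases h with h | h <;> rw [h]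
  · exact ⟨i, rfl⟩
  · exact Subgroup.zpow_mem _ ((Subgroup.zpowers x).inv_mem (Subgroup.mem_zpowers x)) i

/-- A maximal subgroup of `PGL(2, F)` not containing the special part. -/
structure PGLMaxSub (M : Subgroup (Matrix.ProjGenLinGroup (Fin 2) F)) : Prop where
  odd : Fintype.card F % 2 = 1
  ge_five : 5 ≤ Fintype.card F
  coatom : IsCoatom M
  not_le : ¬ pslIn F ≤ M

namespace PGLMaxSub

variable {M : Subgroup (Matrix.ProjGenLinGroup (Fin 2) F)} (h : PGLMaxSub M)
include h

theorem four_le : 4 ≤ Fintype.card F := le_trans (by norm_num) h.ge_five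

theorem index_two : (pslIn F).index = 2 := index_pslIn h.odd

theorem not_le_pslIn : ¬ M ≤ pslIn F := by
  intro hle
  rcases eq_or_lt_of_le hle with e | e
  · exact h.not_le (e ▸ le_rfl)
  · have := h.coatom.2 _ e
    have h2 := h.index_two
    rw [this, Subgroup.index_top] at h2
    omega

theorem exists_outer : ∃ w ∈ M, w ∉ pslIn F := SetLike.not_le_iff_exists.mp h.not_le_pslIn

theorem index_subgroupOf : ((pslIn F).subgroupOf M).index = 2 := by
  obtain ⟨w, hwM, hw⟩ := h.exists_outer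
  rw [Subgroup.index_eq_two_iff]
  refine ⟨⟨w, hwM⟩, fun b => ?_⟩
  rw [Subgroup.mem_subgroupOf, Subgroup.mem_subgroupOf, Subgroup.coe_mul,
    Subgroup.mul_mem_iff_of_index_two h.index_two]
  by_cases hb : (b : PGL2) ∈ pslIn F
  · exact Or.inr ⟨hb, fun e => hw (e.mp hb)⟩
  · exact Or.inl ⟨⟨fun e => absurd e hb, fun e => absurd e hw⟩, hb⟩

theorem card_eq : Nat.card M = 2 * Nat.card (pslPart M) := by
  rw [← Subgroup.card_mul_index ((pslIn F).subgroupOf M), h.index_subgroupOf, mul_comm,
    Nat.card_congr (pslPartEquiv M).toEquiv]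

theorem pslPart_ne_top : pslPart M ≠ ⊤ := by
  intro e
  refine h.not_le ?_
  rintro _ ⟨g, rfl⟩
  exact (show g ∈ pslPart M from e ▸ Subgroup.mem_top g)

/-- A proper nontrivial subgroup of the special part normalised by `M` has normaliser `M`. -/
theorem normalizer_eq {R : Subgroup (Matrix.ProjGenLinGroup (Fin 2) F)} (hRL : R ≤ pslIn F) (hR1 : R ≠ ⊥)
    (hR2 : R ≠ pslIn F) (hMR : M ≤ Subgroup.normalizer (R : Set PGL2)) :
    Subgroup.normalizer (R : Set PGL2) = M := by
  rcases eq_or_lt_of_le hMR with e | e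
  · exact e.symm
  exfalso
  haveI : R.Normal := Subgroup.normalizer_eq_top_iff.mp (h.coatom.2 _ e)
  haveI := isSimpleGroup_psl_two (F := F) h.four_le
  have hR : (R.comap ProjectiveSpecialLinearGroup.toPGL).map ProjectiveSpecialLinearGroup.toPGL = R :=
    Subgroup.map_comap_eq_self hRL
  rcases IsSimpleGroup.eq_bot_or_eq_top_of_normal (R.comap (ProjectiveSpecialLinearGroup.toPGL (R := F)))
    inferInstance with e' | e'
  · rw [e', Subgroup.map_bot] at hR; exact hR1 hR.symm
  · rw [e', ← MonoidHom.range_eq_map] at hR; exact hR2 hR.symm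

/-- If the centraliser-like part of the special part normalises, it lies in `M`. -/
theorem normalizer_image {R : Subgroup (Matrix.ProjectiveSpecialLinearGroup (Fin 2) F)} (hR1 : R ≠ ⊥)
    (hR2 : R ≠ ⊤) (hMR : M ≤ Subgroup.normalizer (R.map ProjectiveSpecialLinearGroup.toPGL : Set PGL2)) :
    Subgroup.normalizer (R.map ProjectiveSpecialLinearGroup.toPGL : Set PGL2) = M ∧
      Subgroup.normalizer (R : Set PSL2) = pslPart M := by
  have hi := ProjectiveSpecialLinearGroup.toPGL_injective (n := Fin 2) (R := F)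
  have e : Subgroup.normalizer (R.map ProjectiveSpecialLinearGroup.toPGL : Set PGL2) = M := by
    refine h.normalizer_eq (Subgroup.map_le_range _ _) ?_ ?_ hMR
    · rwa [Ne, Subgroup.map_eq_bot_iff_of_injective _ hi]
    · intro e
      refine hR2 ((Subgroup.map_injective hi) ?_)
      rw [e, ← MonoidHom.range_eq_map]
  refine ⟨e, ?_⟩
  ext g
  show _ ↔ ProjectiveSpecialLinearGroup.toPGL g ∈ M
  conv_rhs => rw [← e]
  rw [Subgroup.mem_normalizer_iff, Subgroup.mem_normalizer_iff]
  constructor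
  · intro hg z
    constructor
    · rintro ⟨r, hr, rfl⟩
      exact ⟨g * r * g⁻¹, (hg r).mp hr, by rw [map_mul, map_mul, map_inv]⟩
    · rintro ⟨r, hr, hr'⟩
      refine ⟨g⁻¹ * r * g, ?_, ?_⟩
      · refine (hg _).mpr ?_
        rwa [show g * (g⁻¹ * r * g) * g⁻¹ = r by group]
      · rw [map_mul, map_mul, map_inv, hr']; group
  · intro hg r
    have := hg (ProjectiveSpecialLinearGroup.toPGL r)
    rw [← map_inv, ← map_mul, ← map_mul] at this
    exact (Subgroup.mem_map_iff_mem hi).symm.trans (this.trans (Subgroup.mem_map_iff_mem hi))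

theorem card_not_dvd_eight : ¬ Nat.card M ∣ 8 := by
  intro hd
  haveI := Fact.mk Nat.prime_two
  have h4 := h.four_le
  haveI := isSimpleGroup_psl_two (F := F) h4
  have hns := not_isSolvable_psl (K := F) h4
  have hp : IsPGroup 2 M := by
    obtain ⟨i, -, hi⟩ := (Nat.dvd_prime_pow Nat.prime_two).mp (show Nat.card M ∣ 2 ^ 3 from hd)
    exact IsPGroup.of_card hi
  obtain ⟨S, hS⟩ := hp.exists_le_sylow
  have hStop : (S : Subgroup PGL2) ≠ ⊤ := by
    intro e
    have hG : IsPGroup 2 PGL2 := (e ▸ S.2 : IsPGroup 2 (⊤ : Subgroup PGL2)).of_equiv Subgroup.topEquiv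
    haveI := (hG.of_injective _ ProjectiveSpecialLinearGroup.toPGL_injective :
      IsPGroup 2 PSL2).isNilpotent
    exact hns inferInstance
  have hSM : (S : Subgroup PGL2) = M := by
    rcases eq_or_lt_of_le hS with e | e
    · exact e.symm
    · exact absurd (h.coatom.2 _ e) hStop
  have hdiv : 8 ∣ Nat.card M := by
    have h1 : Nat.Coprime 8 (S : Subgroup PGL2).index :=
      (Nat.Coprime.pow_left 3 ((Nat.Prime.coprime_iff_not_dvd Nat.prime_two).mpr S.not_dvd_index) :
        Nat.Coprime (2 ^ 3) _)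
    have h2 : 2 * 4 ∣ Nat.card PGL2 := by
      rw [card_PGL_two_eq, ← card_psl_mul h.odd]
      exact Nat.mul_dvd_mul_left 2 (four_dvd_card_psl_two h4)
    rw [← Subgroup.card_mul_index (S : Subgroup PGL2)] at h2
    exact hSM ▸ h1.dvd_of_dvd_mul_right (show 8 ∣ _ from h2)
  have hc : Nat.card (pslPart M) = 2 ^ 2 := by
    have := Nat.dvd_antisymm hd hdiv
    rw [h.card_eq] at this
    omega
  set N := pslPart M with hN
  have hne : N ≠ ⊥ := fun e => by rw [e, Subgroup.card_bot] at hc; norm_num at hc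
  have hMR : M ≤ Subgroup.normalizer (N.map ProjectiveSpecialLinearGroup.toPGL : Set PGL2) := by
    intro m hm
    refine mem_normalizer_of_conj_mem fun z hz => ?_
    rw [map_pslPart] at hz ⊢
    haveI := Subgroup.normal_of_index_eq_two h.index_two
    exact ⟨Subgroup.Normal.conj_mem inferInstance z hz.1 m, M.mul_mem (M.mul_mem hm hz.2) (M.inv_mem hm)⟩
  have hNN := (h.normalizer_image hne h.pslPart_ne_top hMR).2
  obtain ⟨T, hT⟩ := (IsPGroup.of_card (p := 2) (n := 2) hc).exists_le_sylow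
  have h8 : ¬ 2 ^ 3 ∣ Nat.card PSL2 := by
    intro h8
    have h2 := Sylow.prime_dvd_card_quotient_normalizer (p := 2) (n := 2) h8 hc
    rw [← Subgroup.index_eq_card, hNN, hN, show (pslPart M).comap (pslPart M).subtype = ⊤ from
      Subgroup.subgroupOf_self _, Subgroup.index_top] at h2
    norm_num at h2
  have hTN : (T : Subgroup PSL2) = N := by
    refine (Subgroup.eq_of_le_of_card_ge hT ?_).symm
    obtain ⟨i, hi⟩ := IsPGroup.iff_card.mp T.2
    rw [hi, hc]
    refine Nat.pow_le_pow_right two_pos ?_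
    by_contra hlt
    exact h8 ((Nat.pow_dvd_pow 2 (show 3 ≤ i by omega)).trans (hi ▸ Subgroup.card_subgroup_dvd_card _))
  have hcomm : ∀ a b : N, a * b = b * a := fun a b =>
    IsPGroup.commutative_of_card_eq_prime_sq (p := 2) (G := N) hc a b
  have hle : Subgroup.normalizer ((T : Subgroup PSL2) : Set PSL2) ≤
      Subgroup.centralizer ((T : Subgroup PSL2) : Set PSL2) := by
    rw [hTN, hNN]
    intro a ha
    rw [Subgroup.mem_centralizer_iff]
    intro b hb
    exact congrArg Subtype.val (hcomm ⟨b, hb⟩ ⟨a, ha⟩)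
  have hK := MonoidHom.ker_transferSylow_isComplement' T hle
  set K := (MonoidHom.transferSylow T hle).ker
  have hKc := hK.card_mul
  rw [hTN, hc] at hKc
  rcases IsSimpleGroup.eq_bot_or_eq_top_of_normal K inferInstance with e | e
  · rw [e, Subgroup.card_bot, one_mul] at hKc
    haveI := IsPGroup.isNilpotent (G := PSL2) (IsPGroup.of_card (p := 2) (n := 2) hKc.symm)
    exact hns inferInstance
  · rw [e, Subgroup.card_top] at hKc
    have : 0 < Nat.card PSL2 := Nat.card_pos
    omega

theorem normal_part_le_normalizer :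
    M ≤ Subgroup.normalizer ((pslPart M).map ProjectiveSpecialLinearGroup.toPGL : Set PGL2) := by
  intro m hm
  refine mem_normalizer_of_conj_mem fun z hz => ?_
  rw [map_pslPart] at hz ⊢
  haveI := Subgroup.normal_of_index_eq_two h.index_two
  exact ⟨Subgroup.Normal.conj_mem inferInstance z hz.1 m, M.mul_mem (M.mul_mem hm hz.2) (M.inv_mem hm)⟩

end PGLMaxSub

end Cfsg.Lib.Dickson
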