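import Cfsg.Agent.Lib.Dickson.PGLMax.Dihedral

/-!
# `PGL(2, q)` inside `PSL(2, q²)` and the parabolic maximal subgroups
-/

set_option autoImplicit false
set_option linter.unusedSectionVars false

open Matrix
open scoped MatrixGroups

namespace Cfsg.Lib.Dickson

variable {F : Type*} [Field F] [Fintype F]

local notation "PSL2" => Matrix.ProjectiveSpecialLinearGroup (Fin 2) F
local notation "PGL2" => Matrix.ProjGenLinGroup (Fin 2) F
local notation "ι₀" => (ProjectiveSpecialLinearGroup.toPGL :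
    Matrix.ProjectiveSpecialLinearGroup (Fin 2) F →* Matrix.ProjGenLinGroup (Fin 2) F)

/-- `PGL(2, q)` embeds into `PSL(2, q²)`. -/
theorem exists_pgl_embedding (p : ℕ) [Fact p.Prime] [CharP F p] (hodd : Fintype.card F % 2 = 1) :
    ∃ (E : Type) (_ : Field E) (_ : Fintype E) (_ : CharP E p), Fintype.card E = Fintype.card F ^ 2 ∧
      ∃ f : PGL2 →* Matrix.ProjectiveSpecialLinearGroup (Fin 2) E, Function.Injective f := by
  obtain ⟨n, -, hn⟩ := FiniteField.card F p
  haveI : Fintype (GaloisField p (2 * n)) := Fintype.ofFinite _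
  have hE : Fintype.card (GaloisField p (2 * n)) = Fintype.card F ^ 2 := by
    rw [← Nat.card_eq_fintype_card, GaloisField.card p (2 * n) (by have := n.pos; omega), hn, ← pow_mul,
      mul_comm (n : ℕ)]
  obtain ⟨H, ⟨e⟩⟩ := exists_pgl_subgroup (F := GaloisField p (2 * n)) (K := F) (m := 2) hE.symm even_two
    (by rw [hE, Nat.pow_mod, hodd])
  exact ⟨GaloisField p (2 * n), inferInstance, inferInstance, inferInstance, hE, H.subtype.comp e.symm.toMonoidHom,
    H.subtype_injective.comp e.symm.injective⟩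

/-- Dickson's list for the subgroups of `PGL(2, q)`. -/
theorem pgl_subgroup_cases (p : ℕ) [Fact p.Prime] [CharP F p] (hodd : Fintype.card F % 2 = 1)
    (M : Subgroup (Matrix.ProjGenLinGroup (Fin 2) F)) :
    (∃ k : ℕ, ¬ p ∣ k ∧ ((IsCyclic M ∧ Nat.card M = k) ∨ Nonempty (M ≃* DihedralGroup k))) ∨
      (∃ R : Subgroup M, R.Normal ∧ IsPGroup p R ∧ R ≠ ⊥) ∨
      (Nonempty (M ≃* alternatingGroup (Fin 4)) ∨ Nonempty (M ≃* Equiv.Perm (Fin 4)) ∨
        Nonempty (M ≃* alternatingGroup (Fin 5)) ∨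
        ∃ (K : Type) (_ : Field K) (_ : Fintype K) (m : ℕ), CharP K p ∧ 3 ≤ Fintype.card K ∧
          Fintype.card K ^ m = Fintype.card F ^ 2 ∧
          ((Nonempty (M ≃* Matrix.ProjectiveSpecialLinearGroup (Fin 2) K) ∧ Fintype.card K % 2 = 1) ∨
            Nonempty (M ≃* Matrix.ProjGenLinGroup (Fin 2) K))) := by
  obtain ⟨E, _, _, _, hE, f, hf⟩ := exists_pgl_embedding (F := F) p hodd
  have hp := (Fact.out : p.Prime)
  haveI : Finite (Matrix.ProjectiveSpecialLinearGroup (Fin 2) E) := inferInstance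
  let e : M ≃* M.map f := M.equivMapOfInjective f hf
  rcases psl_subgroup_cases p (M.map f) with ⟨k, hk, hc⟩ | ⟨hpd, P, hP⟩ | ⟨-, hc⟩
  · refine Or.inl ⟨k, fun hpk => ?_, ?_⟩
    · have hpE : p ∣ Fintype.card E := Cfsg.Lib.Linear.Two.dvd_card p
      have h2 : 2 ≤ Fintype.card E := two_le_card
      have hg : Nat.gcd 2 (Fintype.card E - 1) ∣ Fintype.card E - 1 := Nat.gcd_dvd_right _ _
      have hg' : Nat.gcd 2 (Fintype.card E - 1) ∣ Fintype.card E + 1 := by
        have := Nat.dvd_add hg (Nat.gcd_dvd_left 2 (Fintype.card E - 1))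
        rwa [show Fintype.card E - 1 + 2 = Fintype.card E + 1 by omega] at this
      rcases hk with hk | hk
      · exact hp.not_dvd_one ((Nat.dvd_add_right hpE).mp (hpk.trans (hk.trans (Nat.div_dvd_of_dvd hg'))))
      · have := Nat.dvd_sub hpE (hpk.trans (hk.trans (Nat.div_dvd_of_dvd hg)))
        rw [show Fintype.card E - (Fintype.card E - 1) = 1 by omega] at this
        exact hp.not_dvd_one this
    · rcases hc with ⟨hcy, hcard⟩ | ⟨⟨d⟩⟩
      · exact Or.inl ⟨(MulEquiv.isCyclic e).mpr hcy, (Nat.card_congr e.toEquiv).trans hcard⟩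
      · exact Or.inr ⟨e.trans d⟩
  · refine Or.inr (Or.inl ⟨(P : Subgroup _).comap (f.comp M.subtype), ?_, ?_, ?_⟩)
    · refine ⟨fun z hz m => ?_⟩
      show f ((m * z * m⁻¹ : M) : PGL2) ∈ (P : Subgroup _)
      have hm := Subgroup.mem_normalizer_iff.mp (hP (Subgroup.mem_map_of_mem f m.2))
      simpa [map_mul, map_inv] using (hm (f (z : PGL2))).mp hz
    · exact P.2.comap_of_injective _ (hf.comp M.subtype_injective)
    · intro hb
      obtain ⟨x, hx⟩ := exists_prime_orderOf_dvd_card' (G := M.map f) p hpd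
      have hxP : (x : Matrix.ProjectiveSpecialLinearGroup (Fin 2) E) ∈ (P : Subgroup _) :=
        mem_of_pow_eq_one_normalizer P (hP x.2) (k := 1) (by
          rw [pow_one, ← hx, ← Subgroup.coe_pow, pow_orderOf_eq_one, Subgroup.coe_one])
      have hmem : e.symm x ∈ (P : Subgroup _).comap (f.comp M.subtype) := by
        show f ((e.symm x : M) : PGL2) ∈ (P : Subgroup _)
        rw [show f ((e.symm x : M) : PGL2) = (x : Matrix.ProjectiveSpecialLinearGroup (Fin 2) E) from
          congrArg Subtype.val (e.apply_symm_apply x)]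
        exact hxP
      rw [hb, Subgroup.mem_bot] at hmem
      rw [show x = 1 from e.symm.injective (hmem.trans (map_one _).symm), orderOf_one] at hx
      exact hp.one_lt.ne hx
  · refine Or.inr (Or.inr ?_)
    rcases hc with ⟨⟨d⟩⟩ | ⟨⟨d⟩⟩ | ⟨⟨d⟩⟩ | ⟨K, iK, iK', m, hKp, h3, hm, hd⟩
    · exact Or.inl ⟨e.trans d⟩
    · exact Or.inr (Or.inl ⟨e.trans d⟩)
    · exact Or.inr (Or.inr (Or.inl ⟨e.trans d⟩))
    · refine Or.inr (Or.inr (Or.inr ⟨K, iK, iK', m, hKp, h3, hm.trans hE, ?_⟩))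
      exact hd.imp (fun ⟨⟨d⟩, ho⟩ => ⟨⟨e.trans d⟩, ho⟩) fun ⟨d⟩ => ⟨e.trans d⟩

theorem sylow_commute (p : ℕ) [Fact p.Prime] [CharP F p] (P : Sylow p PSL2) {a b : PSL2}
    (ha : a ∈ (P : Subgroup PSL2)) (hb : b ∈ (P : Subgroup PSL2)) : Commute a b := by
  haveI : Finite PSL2 := inferInstance
  obtain ⟨g, hg⟩ := MulAction.exists_smul_eq PSL2 (stdSylow (F := F) p) P
  rw [← hg, Sylow.coe_subgroup_smul, stdSylow_coe] at ha hb
  obtain ⟨_, ⟨u, hu, rfl⟩, rfl⟩ := ha
  obtain ⟨_, ⟨v, hv, rfl⟩, rfl⟩ := hb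
  obtain ⟨s, rfl⟩ := hu
  obtain ⟨t, rfl⟩ := hv
  have h : Commute (Cfsg.Lib.Linear.Two.ut s) (Cfsg.Lib.Linear.Two.ut (F := F) t) := (Commute.all s t).map _
  exact (h.map (QuotientGroup.mk' _)).map _

/-- The parabolic maximal subgroups. -/
theorem PGLMaxSub.parabolic {M : Subgroup (Matrix.ProjGenLinGroup (Fin 2) F)} (h : PGLMaxSub M) (p : ℕ)
    [Fact p.Prime] [CharP F p] (R : Subgroup M) [R.Normal] (hR : IsPGroup p R) (hne : R ≠ ⊥) :
    Nat.card M = Fintype.card F * (Fintype.card F - 1) := by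
  haveI : Finite PSL2 := inferInstance
  have hp := (Fact.out : p.Prime)
  have hi := ProjectiveSpecialLinearGroup.toPGL_injective (n := Fin 2) (R := F)
  have hp2 : p % 2 = 1 := by
    rcases hp.eq_two_or_odd with rfl | e
    · have h2 : 2 ∣ Fintype.card F := Cfsg.Lib.Linear.Two.dvd_card 2
      have := h.odd
      omega
    · exact e
  have hRL : ∀ z ∈ R, (z : PGL2) ∈ pslIn F := by
    intro z hz
    obtain ⟨a, ha⟩ := hR ⟨z, hz⟩
    have ha' : (z : PGL2) ^ p ^ a = 1 := congrArg (fun u : R => ((u : M) : PGL2)) ha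
    obtain ⟨l, hl⟩ : ∃ l, p ^ a = 2 * l + 1 := ⟨p ^ a / 2, by
      have : p ^ a % 2 = 1 := by rw [Nat.pow_mod, hp2, one_pow]; rfl
      omega⟩
    have h1 : (z : PGL2) ^ p ^ a ∈ pslIn F := by rw [ha']; exact one_mem _
    rw [hl, pow_succ, Subgroup.mul_mem_iff_of_index_two h.index_two] at h1
    exact h1.mp (by rw [pow_mul]; exact pow_mem (Subgroup.sq_mem_of_index_two h.index_two _) _)
  let j : pslPart M →* M := ((ι₀).comp (pslPart M).subtype).codRestrict M fun g => g.2
  have hj : Function.Injective j := fun a b e => Subtype.ext (hi (congrArg Subtype.val e))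
  let R₀ : Subgroup (pslPart M) := R.comap j
  set R₁ := R₀.map (pslPart M).subtype with hR₁
  have hR₀p : IsPGroup p R₀ := hR.comap_of_injective j hj
  have hmap : R₁.map ι₀ = R.map M.subtype := by
    ext z
    constructor
    · rintro ⟨_, ⟨g, hg, rfl⟩, rfl⟩
      exact ⟨j g, hg, rfl⟩
    · rintro ⟨r, hr, rfl⟩
      obtain ⟨g, hg⟩ := hRL r hr
      have hgM : g ∈ pslPart M := by show ι₀ g ∈ M; rw [hg]; exact r.2
      exact ⟨g, ⟨⟨g, hgM⟩, show j ⟨g, hgM⟩ ∈ R from (Subtype.ext hg : j ⟨g, hgM⟩ = r) ▸ hr, rfl⟩, hg⟩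
  have hR₁ne : R₁ ≠ ⊥ := by
    intro e
    rw [e, Subgroup.map_bot, eq_comm, Subgroup.map_eq_bot_iff_of_injective _ M.subtype_injective] at hmap
    exact hne hmap
  have hR₀ne : R₀ ≠ ⊥ := fun e => hR₁ne (by rw [hR₁, e, Subgroup.map_bot])
  have hR₁top : R₁ ≠ ⊤ := fun e => h.pslPart_ne_top (top_le_iff.mp (e ▸ Subgroup.map_subtype_le R₀))
  have hN := (h.normalizer_image hR₁ne hR₁top (fun m hm => mem_normalizer_of_conj_mem (by
    rw [hmap]
    rintro _ ⟨r, hr, rfl⟩
    exact ⟨⟨m, hm⟩ * r * ⟨m, hm⟩⁻¹, Subgroup.Normal.conj_mem inferInstance r hr _, rfl⟩))).2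
  obtain ⟨-, P, hP⟩ := le_normalizer_of_normal_pgroup p (pslPart M) R₀ hR₀p hR₀ne
  have hR₁P : R₁ ≤ (P : Subgroup PSL2) := by
    rintro _ ⟨g, hg, rfl⟩
    obtain ⟨a, ha⟩ := hR₀p ⟨g, hg⟩
    exact mem_of_pow_eq_one_normalizer P (hP g.2) (k := a) (congrArg (fun u : R₀ => ((u : pslPart M) : PSL2)) ha)
  have hPM : (P : Subgroup PSL2) ≤ pslPart M := by
    intro y hy
    rw [← hN]
    refine mem_normalizer_of_conj_mem fun z hz => ?_
    rw [(sylow_commute p P hy (hR₁P hz)).eq, mul_inv_cancel_right]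
    exact hz
  have hPne : (P : Subgroup PSL2) ≠ ⊥ := fun e => hR₁ne (eq_bot_iff.mpr (e ▸ hR₁P))
  have hPtop : (P : Subgroup PSL2) ≠ ⊤ := fun e => h.pslPart_ne_top (top_le_iff.mp (e ▸ hPM))
  have hPN := (h.normalizer_image hPne hPtop (fun m hm => mem_normalizer_of_conj_mem (by
    rintro _ ⟨y, hy, rfl⟩
    obtain ⟨y', hy', he⟩ := (Subgroup.mem_normalizer_iff.mp (h.normal_part_le_normalizer hm) (ι₀ y)).mp
      (Subgroup.mem_map_of_mem _ (hPM hy))
    obtain ⟨a, ha⟩ := P.2 ⟨y, hy⟩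
    refine ⟨y', mem_of_pow_eq_one_normalizer P (hP hy') (k := a) (hi ?_), he⟩
    rw [map_pow, he, conj_pow, ← map_pow,
      show y ^ p ^ a = 1 from congrArg (fun u : (P : Subgroup PSL2) => (u : PSL2)) ha, map_one, mul_one,
      mul_inv_cancel]))).2
  rw [h.card_eq, ← hPN]
  have := card_normalizer_sylow_psl p P
  rwa [Nat.gcd_eq_left (show 2 ∣ Fintype.card F - 1 by have := h.odd; omega)] at this

/-! Groups without a subgroup of index two. -/

theorem index_ne_two_of_simple {G : Type*} [Group G] [IsSimpleGroup G] (hG : 2 < Nat.card G) (H : Subgroup G) :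
    H.index ≠ 2 := by
  intro h
  haveI := Subgroup.normal_of_index_eq_two h
  rcases IsSimpleGroup.eq_bot_or_eq_top_of_normal H inferInstance with e | e
  · rw [e, Subgroup.index_bot] at h; omega
  · rw [e, Subgroup.index_top] at h; omega

theorem index_ne_two_alternating_four (H : Subgroup (alternatingGroup (Fin 4))) : H.index ≠ 2 := by
  intro h
  have hall : ∀ a : alternatingGroup (Fin 4), ∃ b c : alternatingGroup (Fin 4), b * b * (c * c) = a := by
    decide +kernel
  have : H = ⊤ := eq_top_iff.mpr fun a _ => by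
    obtain ⟨b, c, rfl⟩ := hall a
    rw [← sq, ← sq]
    exact H.mul_mem (Subgroup.sq_mem_of_index_two h b) (Subgroup.sq_mem_of_index_two h c)
  rw [this, Subgroup.index_top] at h
  omega

theorem index_ne_two_congr {A B : Type*} [Group A] [Group B] (e : A ≃* B) (h : ∀ H : Subgroup B, H.index ≠ 2)
    (H : Subgroup A) : H.index ≠ 2 := fun hH =>
  h (H.map e.toMonoidHom) ((Subgroup.index_map_equiv H e).trans hH)

theorem index_ne_two_psl {K : Type*} [Field K] [Fintype K] (h3 : 3 ≤ Fintype.card K)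
    (H : Subgroup (Matrix.ProjectiveSpecialLinearGroup (Fin 2) K)) : H.index ≠ 2 := by
  rcases Nat.lt_or_ge (Fintype.card K) 4 with h4 | h4
  · obtain ⟨e⟩ := Cfsg.Lib.Linear.Two.psl_equiv_alternating (F := K) (n := 4) (by omega) (by
      have hc := Cfsg.Lib.Linear.Two.card_PSL_two (F := K)
      rw [show Fintype.card K = 3 by omega] at hc
      simp [Nat.factorial] at hc ⊢
      omega)
    exact index_ne_two_congr e index_ne_two_alternating_four H
  · haveI := isSimpleGroup_psl_two (F := K) h4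
    refine index_ne_two_of_simple ?_ H
    have := Nat.le_of_dvd Nat.card_pos (four_dvd_card_psl_two (F := K) h4)
    omega

theorem index_ne_two_alternating_five (H : Subgroup (alternatingGroup (Fin 5))) : H.index ≠ 2 :=
  index_ne_two_of_simple (by rw [nat_card_alternatingGroup, Nat.card_fin]; decide) H

end Cfsg.Lib.Dickson
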