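import Cfsg.Agent.Lib.Dickson.PGLMax.Basic

/-!
# Maximal subgroups of `PGL(2, q)`: cyclic and dihedral cases
-/

set_option autoImplicit false
set_option linter.unusedSectionVars false

open Matrix
open scoped MatrixGroups

namespace Cfsg.Lib.Dickson

variable {F : Type*} [Field F] [Fintype F]

local notation "PSL2" => Matrix.ProjectiveSpecialLinearGroup (Fin 2) F
local notation "PGL2" => Matrix.ProjGenLinGroup (Fin 2) F
local notation "ι₀" => (ProjectiveSpecialLinearGroup.toPGL :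
    Matrix.ProjectiveSpecialLinearGroup (Fin 2) F →* Matrix.ProjGenLinGroup (Fin 2) F)

theorem PGLMaxSub.normalizer_zpowers {M : Subgroup (Matrix.ProjGenLinGroup (Fin 2) F)} (h : PGLMaxSub M)
    {x : Matrix.ProjectiveSpecialLinearGroup (Fin 2) F} (hxM : x ∈ pslPart M) (hx1 : x ≠ 1)
    (hconj : ∀ m ∈ M, m * ι₀ x * m⁻¹ = ι₀ x ∨ m * ι₀ x * m⁻¹ = (ι₀ x)⁻¹) {g : PSL2}
    (hg : g * x * g⁻¹ = x ∨ g * x * g⁻¹ = x⁻¹) : g ∈ pslPart M := by
  have hN := (h.normalizer_image (R := Subgroup.zpowers x) (by rwa [Ne, Subgroup.zpowers_eq_bot])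
    (fun e => h.pslPart_ne_top (top_le_iff.mp (e ▸ Subgroup.zpowers_le.mpr hxM))) (fun m hm => ?_)).2
  · rw [← hN]
    exact mem_normalizer_zpowers hg
  · rw [MonoidHom.map_zpowers]
    exact mem_normalizer_zpowers (hconj m hm)

/-- A maximal subgroup is not cyclic. -/
theorem PGLMaxSub.not_isCyclic {M : Subgroup (Matrix.ProjGenLinGroup (Fin 2) F)} (h : PGLMaxSub M) (p : ℕ)
    [Fact p.Prime] [CharP F p] (hc : IsCyclic M) (hp : ¬ p ∣ Nat.card M) : False := by
  haveI := hc
  obtain ⟨⟨y, hy⟩, hgen⟩ := IsCyclic.exists_generator (α := M)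
  have hyg : ∀ m ∈ M, ∃ i : ℤ, y ^ i = m := fun m hm => by
    obtain ⟨i, hi⟩ := hgen ⟨m, hm⟩
    exact ⟨i, congrArg Subtype.val hi⟩
  obtain ⟨x, hx⟩ := Subgroup.sq_mem_of_index_two h.index_two y
  have hxM : x ∈ pslPart M := by
    show ι₀ x ∈ M
    rw [hx]; exact pow_mem hy 2
  have hcen : ∀ m ∈ M, m * ι₀ x * m⁻¹ = ι₀ x := by
    intro m hm
    obtain ⟨i, rfl⟩ := hyg m hm
    rw [hx]; group
  have hx2 : x ^ 2 ≠ 1 := by
    intro h2
    refine h.card_not_dvd_eight ?_
    have h4 : y ^ 4 = 1 := by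
      rw [show 4 = 2 * 2 by norm_num, pow_mul, ← hx, ← map_pow, h2, map_one]
    have hM : M = Subgroup.zpowers y := le_antisymm (fun m hm => hyg m hm) (Subgroup.zpowers_le.mpr hy)
    rw [hM, Nat.card_zpowers]
    exact (orderOf_dvd_of_pow_eq_one h4).trans (by norm_num)
  have hxp : x ^ p ≠ 1 := by
    intro hxp
    have h1 : orderOf x = p := orderOf_eq_prime hxp fun e => hx2 (by rw [e, one_pow])
    refine hp (h1 ▸ ?_)
    rw [← orderOf_injective ι₀ ProjectiveSpecialLinearGroup.toPGL_injective x, ← Subgroup.orderOf_mk (ι₀ x) hxM]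
    exact orderOf_dvd_natCard _
  obtain ⟨g, rfl⟩ := QuotientGroup.mk_surjective x
  obtain ⟨w, -, hw⟩ := exists_inverting p g hxp
  have hwM := h.normalizer_zpowers hxM (fun e => hx2 (by rw [e, one_pow])) (fun m hm => Or.inl (hcen m hm))
    (Or.inr hw)
  have hc' := hcen _ hwM
  rw [← map_inv, ← map_mul, ← map_mul, hw] at hc'
  have := ProjectiveSpecialLinearGroup.toPGL_injective hc'
  exact hx2 (by rw [sq]; exact mul_eq_one_iff_eq_inv.mpr this.symm)

theorem dihedral_comm_r_two {k : ℕ} [NeZero k] (hk : 5 ≤ k) {z : DihedralGroup k}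
    (h : z * DihedralGroup.r 2 = DihedralGroup.r 2 * z) : ∃ i : ℕ, z = (DihedralGroup.r 1) ^ i := by
  rcases z with i | i
  · exact ⟨i.val, by simp⟩
  · exfalso
    simp only [DihedralGroup.sr_mul_r, DihedralGroup.r_mul_sr] at h
    have h2 : ((4 : ℕ) : ZMod k) = 0 := by
      have := DihedralGroup.sr.inj h
      push_cast
      linear_combination this
    rw [ZMod.natCast_eq_zero_iff] at h2
    have := Nat.le_of_dvd (by norm_num) h2
    omega

/-- A dihedral maximal subgroup. -/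
theorem PGLMaxSub.dihedral {M : Subgroup (Matrix.ProjGenLinGroup (Fin 2) F)} (h : PGLMaxSub M) (p : ℕ)
    [Fact p.Prime] [CharP F p] {k : ℕ} (hpk : ¬ p ∣ k) (e : M ≃* DihedralGroup k) :
    ((k = Fintype.card F - 1 ∧ Fintype.card F ≠ 5) ∨ k = Fintype.card F + 1) ∧
      ∃ x ∈ pslPart M, 2 * orderOf x = k := by
  have hc : Nat.card M = 2 * k := by rw [Nat.card_congr e.toEquiv, DihedralGroup.nat_card]
  have hk0 : 0 < k := by have := (Nat.card_pos (α := M)); omega
  have hk124 : k ≠ 1 ∧ k ≠ 2 ∧ k ≠ 4 := by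
    refine ⟨?_, ?_, ?_⟩ <;> rintro rfl <;> exact h.card_not_dvd_eight (hc ▸ by norm_num)
  haveI : NeZero k := ⟨hk0.ne'⟩
  set y : M := e.symm (DihedralGroup.r 1) with hy
  have hyo : orderOf (y : PGL2) = k := by
    rw [Subgroup.orderOf_coe, hy, e.symm.orderOf_eq, DihedralGroup.orderOf_r_one]
  have hconj : ∀ m ∈ M, m * (y : PGL2) * m⁻¹ = y ∨ m * (y : PGL2) * m⁻¹ = (y : PGL2)⁻¹ := by
    intro m hm
    have hz : e ⟨m, hm⟩ * DihedralGroup.r 1 * (e ⟨m, hm⟩)⁻¹ = DihedralGroup.r 1 ∨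
        e ⟨m, hm⟩ * DihedralGroup.r 1 * (e ⟨m, hm⟩)⁻¹ = (DihedralGroup.r 1)⁻¹ := by
      generalize e ⟨m, hm⟩ = z
      rcases z with i | i
      · left; simp
      · right; simp
    refine hz.imp (fun hh => ?_) fun hh => ?_
    · have := congrArg (fun u => ((e.symm u : M) : PGL2)) hh
      simp only [map_mul, map_inv, MulEquiv.symm_apply_apply, Subgroup.coe_mul, InvMemClass.coe_inv] at this
      exact this
    · have := congrArg (fun u => ((e.symm u : M) : PGL2)) hh
      simp only [map_mul, map_inv, MulEquiv.symm_apply_apply, Subgroup.coe_mul, InvMemClass.coe_inv] at this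
      exact this
  have hyL : (y : PGL2) ∉ pslIn F := by
    rintro ⟨x, hx⟩
    have hxo : orderOf x = k := by
      rw [← orderOf_injective ι₀ ProjectiveSpecialLinearGroup.toPGL_injective x, hx, hyo]
    have hxM : x ∈ pslPart M := by show ι₀ x ∈ M; rw [hx]; exact y.2
    have hx2 : x ^ 2 ≠ 1 := fun e2 => by
      have := Nat.le_of_dvd two_pos (hxo ▸ orderOf_dvd_of_pow_eq_one e2)
      omega
    have hxp : x ^ p ≠ 1 := fun ep => by
      rcases (Nat.dvd_prime (Fact.out : p.Prime)).mp (hxo ▸ orderOf_dvd_of_pow_eq_one ep) with e1 | e1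
      · exact hk124.1 e1
      · exact hpk (e1 ▸ dvd_rfl)
    obtain ⟨g, rfl⟩ := QuotientGroup.mk_surjective x
    obtain ⟨w, -, hw⟩ := exists_inverting p g hxp
    have hwM := h.normalizer_zpowers hxM (fun e1 => hx2 (by rw [e1, one_pow]))
      (fun m hm => by rw [hx]; exact hconj m hm) (Or.inr hw)
    -- every element of the special part is a rotation
    obtain ⟨w', hw'⟩ : ∃ i : ℕ, (y : PGL2) ^ i = ι₀ w := by
      rcases hz : e ⟨ι₀ w, hwM⟩ with i | i
      · refine ⟨i.val, ?_⟩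
        rw [hy, ← Subgroup.coe_pow, ← map_pow, DihedralGroup.r_one_pow, ZMod.natCast_zmod_val, ← hz,
          e.symm_apply_apply]
      · exfalso
        refine h.not_le_pslIn fun m hm => ?_
        have hsr : ∀ u : DihedralGroup k, ∃ j : ℕ, u = (DihedralGroup.r 1) ^ j ∨
            u = DihedralGroup.sr i * (DihedralGroup.r 1) ^ j := by
          rintro (j | j)
          · exact ⟨j.val, Or.inl (by simp)⟩
          · exact ⟨(j - i).val, Or.inr (by simp)⟩
        obtain ⟨j, hj | hj⟩ := hsr (e ⟨m, hm⟩)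
        · have : m = (y : PGL2) ^ j := by
            rw [hy, ← Subgroup.coe_pow, ← map_pow, ← hj, e.symm_apply_apply]
          rw [this, ← hx]
          exact Subgroup.pow_mem (pslIn F) ⟨_, rfl⟩ j
        · have : m = ι₀ w * (y : PGL2) ^ j := by
            have e3 := congrArg (fun u => ((e.symm u : M) : PGL2)) hj
            simp only [map_mul, map_pow, ← hz, MulEquiv.symm_apply_apply, Subgroup.coe_mul, Subgroup.coe_pow] at e3
            exact e3
          rw [this, ← hx]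
          exact Subgroup.mul_mem (pslIn F) ⟨_, rfl⟩ (Subgroup.pow_mem (pslIn F) ⟨_, rfl⟩ j)
    have hcomm : ι₀ (w * QuotientGroup.mk g * w⁻¹) = ι₀ (QuotientGroup.mk g) := by
      rw [map_mul, map_mul, map_inv, ← hw', hx]
      group
    rw [hw] at hcomm
    exact hx2 (by rw [sq]; exact mul_eq_one_iff_eq_inv.mpr (ProjectiveSpecialLinearGroup.toPGL_injective hcomm).symm)
  obtain ⟨j, hj⟩ : 2 ∣ k := by
    by_contra hodd
    have hk' : k = 2 * (k / 2) + 1 := by omega
    have h1 : (y : PGL2) ^ k ∈ pslIn F := by rw [← hyo, pow_orderOf_eq_one]; exact one_mem _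
    rw [hk', pow_succ, Subgroup.mul_mem_iff_of_index_two h.index_two] at h1
    exact hyL (h1.mp (by rw [pow_mul]; exact pow_mem (Subgroup.sq_mem_of_index_two h.index_two _) _))
  obtain ⟨x, hx⟩ := Subgroup.sq_mem_of_index_two h.index_two (y : PGL2)
  have hxo : orderOf x = j := by
    rw [← orderOf_injective ι₀ ProjectiveSpecialLinearGroup.toPGL_injective x, hx,
      orderOf_pow' _ (by norm_num : (2 : ℕ) ≠ 0), hyo, Nat.gcd_eq_right (Dvd.intro j hj.symm), hj,
      Nat.mul_div_cancel_left _ two_pos]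
  have hxM : x ∈ pslPart M := by show ι₀ x ∈ M; rw [hx]; exact pow_mem y.2 2
  have hx2 : x ^ 2 ≠ 1 := fun e2 => by
    have := Nat.le_of_dvd two_pos (hxo ▸ orderOf_dvd_of_pow_eq_one e2)
    omega
  have hxconj : ∀ m ∈ M, m * ι₀ x * m⁻¹ = ι₀ x ∨ m * ι₀ x * m⁻¹ = (ι₀ x)⁻¹ := by
    intro m hm
    rw [hx, ← conj_pow]
    rcases hconj m hm with e1 | e1 <;> rw [e1]
    · exact Or.inl rfl
    · exact Or.inr (inv_pow _ _)
  have hC : Subgroup.centralizer ({x} : Set PSL2) ≤ Subgroup.zpowers x := by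
    intro c hc'
    have hcx : c * x = x * c := Subgroup.mem_centralizer_singleton_iff.mp hc'
    have hcM := h.normalizer_zpowers hxM (fun e1 => hx2 (by rw [e1, one_pow])) hxconj (g := c)
      (Or.inl (by rw [hcx, mul_inv_cancel_right]))
    have hee : e (y ^ 2) = DihedralGroup.r 2 := by
      rw [map_pow, hy, e.apply_symm_apply, DihedralGroup.r_one_pow]; norm_num
    have h1 : e ⟨ι₀ c, hcM⟩ * DihedralGroup.r 2 = DihedralGroup.r 2 * e ⟨ι₀ c, hcM⟩ := by
      rw [← hee, ← map_mul, ← map_mul]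
      refine congrArg e (Subtype.ext ?_)
      show ι₀ c * (y : PGL2) ^ 2 = (y : PGL2) ^ 2 * ι₀ c
      rw [← hx, ← map_mul, ← map_mul, hcx]
    obtain ⟨i, hi⟩ := dihedral_comm_r_two (by omega) h1
    have hci : (y : PGL2) ^ i = ι₀ c := by
      rw [hy, ← Subgroup.coe_pow, ← map_pow, ← hi, e.symm_apply_apply]
    rcases Nat.even_or_odd i with ⟨l, hl⟩ | ⟨l, hl⟩
    · refine ⟨(l : ℤ), ProjectiveSpecialLinearGroup.toPGL_injective ?_⟩
      show ι₀ (x ^ (l : ℤ)) = ι₀ c
      rw [map_zpow, zpow_natCast, hx, ← hci, hl, ← pow_mul, two_mul]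
    · exfalso
      have h2 : (y : PGL2) ^ i ∈ pslIn F := ⟨c, hci.symm⟩
      rw [hl, pow_succ, Subgroup.mul_mem_iff_of_index_two h.index_two] at h2
      exact hyL (h2.mp (by rw [pow_mul]; exact pow_mem (Subgroup.sq_mem_of_index_two h.index_two _) _))
  have hge := card_centralizer_ge hx2
  rw [Nat.gcd_eq_left (show 2 ∣ Fintype.card F - 1 by have := h.odd; omega)] at hge
  have hle : Nat.card (Subgroup.centralizer ({x} : Set PSL2)) ≤ j := by
    rw [← hxo, ← Nat.card_zpowers]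
    exact Subgroup.card_le_of_le hC
  have hnd : ¬ p ∣ orderOf x := fun hd => hpk (hxo ▸ hd |>.trans (Dvd.intro_left 2 hj.symm))
  have hd := orderOf_dvd_card_add_sub hnd
  rw [Nat.gcd_eq_left (show 2 ∣ Fintype.card F - 1 by have := h.odd; omega), hxo, ← hj] at hd
  refine ⟨?_, x, hxM, by rw [hxo, hj]⟩
  have hq := h.ge_five
  rcases hd with hd | hd
  · obtain ⟨c, hcc⟩ := hd
    right
    rcases (show c = 0 ∨ c = 1 ∨ 2 ≤ c by omega) with rfl | rfl | hc2
    · omega
    · omega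
    · have := Nat.mul_le_mul_left k hc2
      omega
  · have := Nat.le_of_dvd (by omega) hd
    left
    omega

end Cfsg.Lib.Dickson
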