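import Cfsg.Agent.Lib.Dickson.PGLMax.Subfield

/-!
# The maximal subgroups of `PGL(2, q)`, `q` odd
-/

set_option autoImplicit false
set_option linter.unusedSectionVars false

open Matrix
open scoped MatrixGroups

namespace Cfsg.Lib.Dickson

variable {F : Type*} [Field F] [Fintype F]

theorem orderOf_alternating_four_le (a : alternatingGroup (Fin 4)) : orderOf a ≤ 3 := by
  rcases (show ∀ a : alternatingGroup (Fin 4), a ^ 2 = 1 ∨ a ^ 3 = 1 by decide +kernel) a with h | h <;> have := Nat.le_of_dvd (by norm_num) (orderOf_dvd_of_pow_eq_one h) <;>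
    omega

theorem orderOf_perm_four_le (a : Equiv.Perm (Fin 4)) : orderOf a ≤ 4 := by
  rcases (sign_four_exponents a).2.2 with h | h <;> have := Nat.le_of_dvd (by norm_num) (orderOf_dvd_of_pow_eq_one h) <;>
    omega

theorem orderOf_alternating_five_le (a : alternatingGroup (Fin 5)) : orderOf a ≤ 5 := by
  rcases (show ∀ a : alternatingGroup (Fin 5), a ^ 2 = 1 ∨ a ^ 3 = 1 ∨ a ^ 5 = 1 by decide +kernel) a with h | h | h <;>
    have := Nat.le_of_dvd (by norm_num) (orderOf_dvd_of_pow_eq_one h) <;> omega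

theorem PGLMaxSub.types {M : Subgroup (Matrix.ProjGenLinGroup (Fin 2) F)} (h : PGLMaxSub M) (p : ℕ)
    [Fact p.Prime] [CharP F p] :
    Nat.card M = Fintype.card F * (Fintype.card F - 1) ∨
    (∃ k : ℕ, ((k = Fintype.card F - 1 ∧ Fintype.card F ≠ 5) ∨ k = Fintype.card F + 1) ∧
      Nonempty (M ≃* DihedralGroup k) ∧ ∃ x ∈ pslPart M, 2 * orderOf x = k) ∨
    (Fintype.card F = p ∧ (p % 8 = 3 ∨ p % 8 = 5) ∧ Nonempty (M ≃* Equiv.Perm (Fin 4)) ∧
      NoNormalCyclic (pslPart M)) ∨
    (∃ (F₀ : Type) (_ : Field F₀) (_ : Fintype F₀) (r : ℕ), r.Prime ∧ Odd r ∧ 3 ≤ Fintype.card F₀ ∧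
      Fintype.card F = Fintype.card F₀ ^ r ∧ Nonempty (M ≃* Matrix.ProjGenLinGroup (Fin 2) F₀) ∧
      NoNormalCyclic (pslPart M)) := by
  classical
  obtain ⟨n', -, hn⟩ := FiniteField.card F p
  have four : (M ≃* Equiv.Perm (Fin 4)) →
      (Fintype.card F = p ∧ (p % 8 = 3 ∨ p % 8 = 5) ∧ Nonempty (M ≃* Equiv.Perm (Fin 4)) ∧
        NoNormalCyclic (pslPart M)) ∨
      (∃ (F₀ : Type) (_ : Field F₀) (_ : Fintype F₀) (r : ℕ), r.Prime ∧ Odd r ∧ 3 ≤ Fintype.card F₀ ∧
        Fintype.card F = Fintype.card F₀ ^ r ∧ Nonempty (M ≃* Matrix.ProjGenLinGroup (Fin 2) F₀) ∧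
        NoNormalCyclic (pslPart M)) := by
    intro e
    obtain ⟨hnn, ⟨h1, h2⟩ | ⟨r, hr, ho, h3⟩⟩ := h.perm_four p hn n'.pos e
    · exact Or.inl ⟨h1, h2, ⟨e⟩, hnn⟩
    · obtain ⟨f⟩ := nonempty_pgl_three_equiv
      exact Or.inr ⟨ZMod 3, inferInstance, inferInstance, r, hr, ho, by rw [ZMod.card], by rw [h3, ZMod.card],
        ⟨e.trans f.symm⟩, hnn⟩
  have noIdx : ∀ {T : Type} [Group T], (M ≃* T) → (∀ H : Subgroup T, H.index ≠ 2) → False :=
    fun e hT => index_ne_two_congr e hT _ h.index_subgroupOf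
  rcases pgl_subgroup_cases p h.odd M with ⟨k, hpk, hk⟩ | ⟨R, hRn, hR, hRne⟩ | hc
  · rcases hk with ⟨hcy, hcard⟩ | ⟨⟨e⟩⟩
    · exact absurd (h.not_isCyclic p hcy (hcard ▸ hpk)) not_false
    · obtain ⟨hkk, hx⟩ := h.dihedral p hpk e
      exact Or.inr (Or.inl ⟨k, hkk, ⟨e⟩, hx⟩)
  · haveI := hRn
    exact Or.inl (h.parabolic p R hR hRne)
  refine Or.inr (Or.inr ?_)
  rcases hc with ⟨⟨e⟩⟩ | ⟨⟨e⟩⟩ | ⟨⟨e⟩⟩ | ⟨K, _, _, m, hKp, h3, hm, hK⟩
  · exact absurd (noIdx e index_ne_two_alternating_four) not_false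
  · exact four e
  · exact absurd (noIdx e index_ne_two_alternating_five) not_false
  rcases hK with ⟨⟨e⟩, -⟩ | ⟨⟨e⟩⟩
  · exact absurd (noIdx e (index_ne_two_psl h3)) not_false
  rcases Nat.lt_or_ge (Fintype.card K) 4 with hK4 | hK4
  · haveI : Fintype (ZMod 3) := inferInstance
    obtain ⟨f⟩ := nonempty_pgl_three_equiv
    have hc3 : Fintype.card (ZMod 3) = Fintype.card K := by rw [ZMod.card]; omega
    exact four ((e.trans (pglEquiv (FiniteField.ringEquivOfCardEq hc3.symm))).trans f)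
  · haveI := hKp
    obtain ⟨hnn, r, hr, ho, hq⟩ := h.field p hn hK4 hm e
    exact Or.inr ⟨K, inferInstance, inferInstance, r, hr, ho, h3, hq, ⟨e⟩, hnn⟩

theorem pglMaxSub_of {M : Subgroup (Matrix.ProjGenLinGroup (Fin 2) F)} (hodd : Fintype.card F % 2 = 1)
    (h5 : 5 ≤ Fintype.card F) (hM : IsCoatom M)
    (hML : ¬ (Matrix.ProjGenLinGroup.mk.comp Matrix.SpecialLinearGroup.toGL).range ≤ M) : PGLMaxSub M :=
  ⟨hodd, h5, hM, range_comp_toGL_eq (F := F) ▸ hML⟩

/-- The special part of a maximal subgroup is maximal outside the listed exceptions. -/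
theorem PGLMaxSub.isCoatom_pslPart {M : Subgroup (Matrix.ProjGenLinGroup (Fin 2) F)} (h : PGLMaxSub M) (p : ℕ)
    [Fact p.Prime] [CharP F p] (h7 : Fintype.card F ≠ 7) (h9 : Fintype.card F ≠ 9) (h11 : Fintype.card F ≠ 11)
    (h40 : (Fintype.card F).Prime → Fintype.card F % 40 ∉ ({11, 19, 21, 29} : Finset ℕ)) :
    IsCoatom (pslPart M) := by
  classical
  haveI : Finite (Matrix.ProjectiveSpecialLinearGroup (Fin 2) F) := inferInstance
  have hp := (Fact.out : p.Prime)
  set N := pslPart M with hN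
  obtain ⟨B, hB, hNB⟩ := (eq_top_or_exists_le_coatom N).resolve_left h.pslPart_ne_top
  suffices hle : Nat.card B ≤ Nat.card N by
    rw [Subgroup.eq_of_le_of_card_ge hNB hle]; exact hB
  have hq5 := h.ge_five
  have hodd := h.odd
  have hMN : Nat.card M = 2 * Nat.card N := h.card_eq
  have hd := Subgroup.card_dvd_of_le hNB
  have hle' := Subgroup.card_le_of_le hNB
  have hN0 : 0 < Nat.card N := Nat.card_pos
  have hlow : ∀ q₀ r : ℕ, 3 ≤ q₀ → 3 ≤ r → 27 ≤ q₀ ^ r := fun q₀ r hq hr =>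
    (Nat.pow_le_pow_right (by omega) hr).trans' ((by norm_num : 27 ≤ 3 ^ 3).trans (Nat.pow_le_pow_left hq 3))
  rcases h.types p with hc | ⟨k, hk, ⟨eD⟩, x, hxN, hxk⟩ | ⟨hqp, hp8, ⟨e⟩, hnn⟩ |
    ⟨F₀, _, _, r, hr, ho, h30, hq, ⟨e⟩, hnn⟩
  · -- parabolic
    have hcN : 2 * Nat.card N = Fintype.card F * (Fintype.card F - 1) := by rw [← hMN, hc]
    have h20 : 4 * Fintype.card F ≤ Fintype.card F * (Fintype.card F - 1) := by
      rw [mul_comm 4]; exact Nat.mul_le_mul_left _ (by omega)
    rcases maximal_types_odd p (Nat.odd_iff.mpr hodd) hq5 B hB with hb | ⟨-, j, hj, ⟨f⟩⟩ | ⟨-, -, j, hj, ⟨f⟩⟩ |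
      ⟨K, _, _, hK, ⟨f⟩⟩ | ⟨K, _, _, s, hs, hso, hK, ⟨f⟩⟩ | ⟨h10, -, ⟨f⟩⟩ | ⟨-, -, -, ⟨f⟩⟩ | ⟨-, -, ⟨f⟩⟩
    · omega
    · rw [Nat.card_congr f.toEquiv, DihedralGroup.nat_card] at hle'; omega
    · rw [Nat.card_congr f.toEquiv, DihedralGroup.nat_card] at hle'; omega
    · exfalso
      rw [Nat.card_congr f.toEquiv, card_PGL_two_eq, ← hK] at hle'
      have h2 : 2 * Fintype.card K < Fintype.card F := by
        have h3K : 3 ≤ Fintype.card K := by
          by_contra hlt
          have := Nat.pow_le_pow_left (show Fintype.card K ≤ 2 by omega) 2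
          omega
        rw [hK, sq]
        exact Nat.mul_lt_mul_of_pos_right (show 2 < Fintype.card K by omega) (by omega)
      have h4 := Nat.mul_le_mul_left 2 hle'
      rw [hcN, ← mul_assoc] at h4
      have := Nat.mul_lt_mul_of_pos_right h2 (show 0 < Fintype.card F - 1 by omega)
      omega
    · exfalso
      have hKodd : Fintype.card K % 2 = 1 := by
        have : Odd (Fintype.card K ^ s) := hK ▸ Nat.odd_iff.mpr hodd
        exact Nat.odd_iff.mp ((Nat.odd_pow_iff hs.ne_zero).mp this)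
      have h4 := Nat.mul_le_mul_left 2 hle'
      rw [Nat.card_congr f.toEquiv, card_psl_mul hKodd, hcN] at h4
      have hs3 : 3 ≤ s := by rcases hso with ⟨l, rfl⟩; have := hs.two_le; omega
      have hK2 := two_le_card (F := K)
      have hKlt : Fintype.card K < Fintype.card F := by
        rw [hK]
        calc Fintype.card K = Fintype.card K ^ 1 := (pow_one _).symm
          _ < Fintype.card K ^ s := Nat.pow_lt_pow_right hK2 (by omega)
      have h23 : Fintype.card K ^ 2 ≤ Fintype.card F := hK ▸ Nat.pow_le_pow_right (by omega) (by omega)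
      exact absurd h4 (Nat.not_le.mpr (Nat.mul_lt_mul_of_lt_of_le hKlt (by omega) (by omega)))
    · rw [card_target_five f] at hle'
      have hmul : Fintype.card F ≤ 11 := by
        by_contra hlt
        have := Nat.mul_le_mul (show 12 ≤ Fintype.card F by omega) (show 11 ≤ Fintype.card F - 1 by omega)
        omega
      interval_cases hqq : Fintype.card F <;> omega
    · rw [card_target_four f] at hd hle' ⊢
      have hmul : Fintype.card F ≤ 6 := by omega
      interval_cases hqq : Fintype.card F <;> first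
        | omega
        | (rw [show Nat.card N = 10 by omega] at hd; omega)
    · rw [card_target_perm f] at hd hle' ⊢
      have hmul : Fintype.card F ≤ 12 := by omega
      interval_cases hqq : Fintype.card F <;> first
        | omega
        | (rw [show Nat.card N = 10 by omega] at hd; omega)
  · -- dihedral
    have hcN : Nat.card N = k := by
      rw [Nat.card_congr eD.toEquiv, DihedralGroup.nat_card] at hMN
      omega
    have hxB : x ∈ B := hNB hxN
    have hbig : ∀ q₀ r : ℕ, Fintype.card F = q₀ ^ r → 2 ≤ r → orderOf x ≤ q₀ + 1 → False := by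
      intro q₀ r hq hr2 hox
      rcases Nat.lt_or_ge q₀ 5 with hlt | hge
      · have hr9 : Fintype.card F ≤ 4 * q₀ + 2 ∨ Fintype.card F < 5 := Or.inl (by omega)
        have h3' : 3 ≤ q₀ := by
          by_contra hlt2
          rcases (show q₀ = 0 ∨ q₀ = 1 ∨ q₀ = 2 by omega) with rfl | rfl | rfl
          · rw [zero_pow (by omega)] at hq; omega
          · rw [one_pow] at hq; omega
          · have : 2 ∣ Fintype.card F := hq ▸ dvd_pow_self 2 (by omega)
            omega
        rcases (show q₀ = 3 ∨ q₀ = 4 by omega) with rfl | rfl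
        · rcases (show r = 2 ∨ 3 ≤ r by omega) with rfl | hr3
          · exact h9 hq
          · have := hlow 3 r le_rfl hr3
            omega
        · have : 2 ∣ Fintype.card F := hq ▸ dvd_pow (by norm_num) (by omega)
          omega
      · have h1 : q₀ ^ 2 ≤ Fintype.card F := hq ▸ Nat.pow_le_pow_right (by omega) hr2
        have h2 : 5 * q₀ ≤ q₀ ^ 2 := by rw [sq]; exact Nat.mul_le_mul_right _ hge
        omega
    rcases maximal_types_odd p (Nat.odd_iff.mpr hodd) hq5 B hB with hb | ⟨-, j, hj, ⟨f⟩⟩ | ⟨-, -, j, hj, ⟨f⟩⟩ |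
      ⟨K, _, _, hK, ⟨f⟩⟩ | ⟨K, _, _, s, hs, hso, hK, ⟨f⟩⟩ | ⟨h10, -, ⟨f⟩⟩ | ⟨-, -, -, ⟨f⟩⟩ | ⟨h8q, h8, ⟨f⟩⟩
    · exfalso
      have hd2 : 2 * k ∣ Fintype.card F * (Fintype.card F - 1) := by rw [← hb, ← hcN]; exact Nat.mul_dvd_mul_left 2 hd
      rcases hk with ⟨hk, -⟩ | hk <;> rw [hk] at hd2
      · have h2 : 2 ∣ Fintype.card F :=
          Nat.dvd_of_mul_dvd_mul_right (show 0 < Fintype.card F - 1 by omega) hd2
        omega
      · have h1 : Nat.Coprime (2 * (Fintype.card F + 1)) (Fintype.card F) := by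
          refine Nat.Coprime.mul_left (Nat.coprime_two_left.mpr (Nat.odd_iff.mpr hodd)) ?_
          rw [Nat.coprime_self_add_left]
          exact Nat.coprime_one_left _
        have := Nat.le_of_dvd (by omega) (h1.dvd_of_dvd_mul_left hd2)
        omega
    · have hcB : Nat.card B = 2 * j := by rw [Nat.card_congr f.toEquiv, DihedralGroup.nat_card]
      rw [hcN] at hd ⊢
      rw [hcB] at hd ⊢
      rcases hk with ⟨hk, -⟩ | hk
      · omega
      · have := Nat.le_of_dvd (by omega) hd; omega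
    · have hcB : Nat.card B = 2 * j := by rw [Nat.card_congr f.toEquiv, DihedralGroup.nat_card]
      rw [hcN] at hd ⊢
      rw [hcB] at hd ⊢
      rcases hk with ⟨hk, -⟩ | hk
      · exfalso
        obtain ⟨c, hc⟩ := hd
        rcases (show c = 0 ∨ c = 1 ∨ 2 ≤ c by omega) with rfl | rfl | hc2
        · omega
        · omega
        · have := Nat.mul_le_mul_left k hc2; omega
      · omega
    · exfalso
      refine hbig _ 2 hK le_rfl ?_
      haveI : CharP K p := by
        obtain ⟨p', hp', hcp, a, ha, hca⟩ := exists_char (F := K)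
        have hdd : p' ∣ Fintype.card F := by rw [hK, hca]; exact dvd_pow (dvd_pow_self p' (by omega)) two_ne_zero
        obtain ⟨a', -, ha'⟩ := FiniteField.card F p
        obtain rfl := (Nat.prime_dvd_prime_iff_eq hp' hp).mp (hp'.dvd_of_dvd_pow (ha' ▸ hdd))
        exact hcp
      rw [← Subgroup.orderOf_mk x hxB, ← f.orderOf_eq]
      exact orderOf_le_card_add_one _
    · exfalso
      refine hbig _ s hK hs.two_le ?_
      rw [← Subgroup.orderOf_mk x hxB, ← f.orderOf_eq,
        ← orderOf_injective _ ProjectiveSpecialLinearGroup.toPGL_injective]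
      exact orderOf_le_card_add_one _
    · exfalso
      have h5 : orderOf x ≤ 5 := by
        rw [← Subgroup.orderOf_mk x hxB, ← f.orderOf_eq]
        exact orderOf_alternating_five_le _
      omega
    · exfalso
      have h3 : orderOf x ≤ 3 := by
        rw [← Subgroup.orderOf_mk x hxB, ← f.orderOf_eq]
        exact orderOf_alternating_four_le _
      refine index_ne_two_congr f index_ne_two_alternating_four (N.subgroupOf B) ?_
      have h1 := Subgroup.card_mul_index (N.subgroupOf B)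
      rw [Nat.card_congr (Subgroup.subgroupOfEquivOfLe hNB).toEquiv, hcN, card_target_four f,
        show k = 6 by omega] at h1
      omega
    · exfalso
      have h4 : orderOf x ≤ 4 := by
        rw [← Subgroup.orderOf_mk x hxB, ← f.orderOf_eq]
        exact orderOf_perm_four_le _
      omega
  · -- the symmetric group
    have hcN : Nat.card N = 12 := by rw [card_target_perm e] at hMN; omega
    have hne : N ≠ ⊥ := fun e' => by rw [e', Subgroup.card_bot] at hcN; omega
    subst hqp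
    rcases maximal_types_odd _ (Nat.odd_iff.mpr hodd) hq5 B hB with hb | ⟨-, j, hj, hf⟩ | ⟨-, -, j, hj, hf⟩ |
      ⟨K, _, _, hK, ⟨f⟩⟩ | ⟨K, _, _, s, hs, hso, hK, ⟨f⟩⟩ | ⟨h10, -, ⟨f⟩⟩ | ⟨-, -, -, ⟨f⟩⟩ | ⟨-, h8, ⟨f⟩⟩
    · exfalso
      have hd2 : 24 ∣ Fintype.card F * (Fintype.card F - 1) := by
        rw [← hb]; rw [hcN] at hd; exact (Nat.mul_dvd_mul_left 2 hd)
      have h2 : 8 ∣ Fintype.card F - 1 :=
        (Nat.Coprime.pow_left 3 (Nat.coprime_two_left.mpr (Nat.odd_iff.mpr hodd)) :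
          Nat.Coprime (2 ^ 3) _).dvd_of_dvd_mul_left ((show 2 ^ 3 ∣ 24 by norm_num).trans hd2)
      omega
    · exact absurd (Or.inr hf) (not_le_cyclic_or_dihedral hNB hnn hne)
    · exact absurd (Or.inr hf) (not_le_cyclic_or_dihedral hNB hnn hne)
    · exact absurd hK fun hK => Nat.Prime.not_prime_pow le_rfl (hK ▸ hp)
    · exact absurd hK fun hK => Nat.Prime.not_prime_pow hs.two_le (hK ▸ hp)
    · exfalso
      have h' := h40 hp
      simp only [Finset.mem_insert, Finset.mem_singleton] at h'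
      omega
    · rw [card_target_four f, hcN]
    · exfalso; omega
  · -- subfield
    have hF0odd : Fintype.card F₀ % 2 = 1 := by
      have : Odd (Fintype.card F₀ ^ r) := hq ▸ Nat.odd_iff.mpr hodd
      exact Nat.odd_iff.mp ((Nat.odd_pow_iff hr.ne_zero).mp this)
    have hcN : 2 * Nat.card N = Fintype.card F₀ * (Fintype.card F₀ ^ 2 - 1) := by
      rw [← hMN, Nat.card_congr e.toEquiv, card_PGL_two_eq]
    have hne : N ≠ ⊥ := fun e' => by
      rw [e', Subgroup.card_bot] at hcN
      have := Nat.mul_le_mul h30 (show 1 ≤ Fintype.card F₀ ^ 2 - 1 by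
        have := Nat.pow_le_pow_left h30 2; omega)
      omega
    have hr3 : 3 ≤ r := by rcases ho with ⟨l, rfl⟩; have := hr.two_le; omega
    have hsub : ∀ (K : Type) [Field K] [Fintype K] (m : ℕ), Fintype.card K ^ m = Fintype.card F → 2 ≤ m →
        Fintype.card F₀ * (Fintype.card F₀ ^ 2 - 1) ∣ 2 * (Fintype.card K * (Fintype.card K ^ 2 - 1)) →
        Fintype.card K = Fintype.card F₀ ∧ m = r := by
      intro K _ _ m hm hm2 hdvd
      obtain ⟨p₁, hp₁, -, a, ha, hca⟩ := exists_char (F := F₀)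
      obtain ⟨p₂, hp₂, -, b, hb, hcb⟩ := exists_char (F := K)
      have h12 : p₂ = p₁ := by
        have hdd : p₂ ∣ (p₁ ^ a) ^ r := by
          rw [← hca, ← hq, ← hm, hcb]; exact dvd_pow (dvd_pow_self p₂ (by omega)) (by omega)
        exact (Nat.prime_dvd_prime_iff_eq hp₂ hp₁).mp (hp₂.dvd_of_dvd_pow (hp₂.dvd_of_dvd_pow hdd))
      subst h12
      rcases subfield_eq_cases hp₁ ha hca hcb hr hb hdvd (hm.trans hq) with e' | e'
      · exact e'
      · exfalso
        rw [← hq] at e'
        have := Nat.pow_right_injective (show 2 ≤ Fintype.card F by omega)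
          (show Fintype.card F ^ m = Fintype.card F ^ 1 by rw [pow_one]; rwa [e'] at hm)
        omega
    rcases maximal_types_odd p (Nat.odd_iff.mpr hodd) hq5 B hB with hb | ⟨-, j, hj, hf⟩ | ⟨-, -, j, hj, hf⟩ |
      ⟨K, _, _, hK, ⟨f⟩⟩ | ⟨K, _, _, s, hs, hso, hK, ⟨f⟩⟩ | ⟨-, hqq, ⟨f⟩⟩ | ⟨hqq, -⟩ | ⟨hqq, -⟩
    · exfalso
      have hd2 : (Fintype.card F₀ + 1) * (Fintype.card F₀ - 1) ∣ Fintype.card F * (Fintype.card F - 1) := by
        rw [show (Fintype.card F₀ + 1) * (Fintype.card F₀ - 1) = Fintype.card F₀ ^ 2 - 1 by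
          rw [← Nat.sq_sub_sq, one_pow], ← hb]
        exact (Dvd.intro_left _ rfl).trans ((dvd_of_eq hcN.symm).trans (Nat.mul_dvd_mul_left 2 hd))
      have h1 : Fintype.card F₀ + 1 ∣ Fintype.card F + 1 := by
        rw [hq]; simpa using ho.nat_add_dvd_pow_add_pow (Fintype.card F₀) 1
      have hco : Nat.Coprime (Fintype.card F₀ + 1) (Fintype.card F) := by
        rw [hq]
        refine Nat.Coprime.pow_right r ?_
        rw [Nat.coprime_self_add_left]
        exact Nat.coprime_one_left _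
      have h2 : Fintype.card F₀ + 1 ∣ Fintype.card F - 1 := hco.dvd_of_dvd_mul_left ((Dvd.intro _ rfl).trans hd2)
      have h3 := Nat.dvd_sub h1 h2
      rw [show Fintype.card F + 1 - (Fintype.card F - 1) = 2 by omega] at h3
      have := Nat.le_of_dvd two_pos h3
      omega
    · exact absurd (Or.inr hf) (not_le_cyclic_or_dihedral hNB hnn hne)
    · exact absurd (Or.inr hf) (not_le_cyclic_or_dihedral hNB hnn hne)
    · exfalso
      have hdd := Nat.mul_dvd_mul_left 2 hd
      rw [hcN, Nat.card_congr f.toEquiv, card_PGL_two_eq] at hdd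
      have := (hsub K 2 hK.symm le_rfl hdd).2
      omega
    · have hKodd : Fintype.card K % 2 = 1 := by
        have : Odd (Fintype.card K ^ s) := hK ▸ Nat.odd_iff.mpr hodd
        exact Nat.odd_iff.mp ((Nat.odd_pow_iff hs.ne_zero).mp this)
      have hcB : 2 * Nat.card B = Fintype.card K * (Fintype.card K ^ 2 - 1) := by
        rw [Nat.card_congr f.toEquiv, card_psl_mul hKodd]
      obtain ⟨hKF, -⟩ := hsub K s hK.symm hs.two_le
        ((dvd_of_eq hcN.symm).trans ((Nat.mul_dvd_mul_left 2 hd).trans ((dvd_of_eq hcB).trans (dvd_mul_left _ _))))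
      rw [hKF] at hcB
      omega
    · exfalso
      obtain ⟨p₁, hp₁, -, a, ha, hca⟩ := exists_char (F := F₀)
      rw [hq, hca, ← pow_mul] at hqq
      have hpp : p₁ = p := by
        have hdd : p₁ ∣ p ^ 2 := by
          rcases hqq with e' | ⟨e', -⟩
          · rw [← e', ← pow_mul]; exact dvd_pow_self p₁ (by positivity)
          · rw [← e']; exact dvd_pow_self p₁ (by positivity)
        exact (Nat.prime_dvd_prime_iff_eq hp₁ hp).mp (hp₁.dvd_of_dvd_pow hdd)
      subst hpp
      have har : 3 ≤ a * r := le_trans hr3 (Nat.le_mul_of_pos_left r ha)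
      rcases hqq with e' | ⟨e', -⟩
      · have := Nat.pow_right_injective hp₁.two_le (e'.trans (pow_one _).symm); omega
      · have := Nat.pow_right_injective hp₁.two_le e'; omega
    · exact absurd hq fun hq => Nat.Prime.not_prime_pow hr.two_le (hq ▸ hqq ▸ hp)
    · exact absurd hq fun hq => Nat.Prime.not_prime_pow hr.two_le (hq ▸ hqq ▸ hp)

end Cfsg.Lib.Dickson
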