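import Cfsg.Agent.Lib.Dickson.PGLMax.Borel

/-!
# Maximal subgroups of `PGL(2, q)`: `S₄` and subfield groups
-/

set_option autoImplicit false
set_option linter.unusedSectionVars false

open Matrix
open scoped MatrixGroups

namespace Cfsg.Lib.Dickson

variable {F : Type*} [Field F] [Fintype F]

local notation "SL2" => Matrix.SpecialLinearGroup (Fin 2) F
local notation "PSL2" => Matrix.ProjectiveSpecialLinearGroup (Fin 2) F
local notation "PGL2" => Matrix.ProjGenLinGroup (Fin 2) F
local notation "ι₀" => (ProjectiveSpecialLinearGroup.toPGL :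
    Matrix.ProjectiveSpecialLinearGroup (Fin 2) F →* Matrix.ProjGenLinGroup (Fin 2) F)

/-- The conjugate of the projective group of a subfield. -/
noncomputable def fieldPGL (L : Subfield F) (U : GL (Fin 2) F) : Subgroup (Matrix.ProjGenLinGroup (Fin 2) F) :=
  (ProjGenLinGroup.map L.subtype : Matrix.ProjGenLinGroup (Fin 2) L →* PGL2).range.map
    (MulAut.conj (ProjGenLinGroup.mk U⁻¹)).toMonoidHom

theorem mk_mem_fieldPGL {L : Subfield F} {U g : GL (Fin 2) F}
    (h : ∀ i j, ((U * g * U⁻¹ : GL (Fin 2) F) : Matrix (Fin 2) (Fin 2) F) i j ∈ L) :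
    ProjGenLinGroup.mk g ∈ fieldPGL L U := by
  let B : Matrix (Fin 2) (Fin 2) L := Matrix.of fun i j => ⟨_, h i j⟩
  have hB : B.map L.subtype = ((U * g * U⁻¹ : GL (Fin 2) F) : Matrix (Fin 2) (Fin 2) F) := rfl
  have hd : B.det ≠ 0 := by
    intro e
    refine (Matrix.GeneralLinearGroup.det (U * g * U⁻¹)).ne_zero ?_
    show ((U * g * U⁻¹ : GL (Fin 2) F) : Matrix (Fin 2) (Fin 2) F).det = 0
    rw [← hB, ← RingHom.mapMatrix_apply, ← RingHom.map_det, e, map_zero]
  refine ⟨_, ⟨ProjGenLinGroup.mk (GeneralLinearGroup.mkOfDetNeZero B hd), rfl⟩, ?_⟩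
  rw [ProjGenLinGroup.map_mk, MulEquiv.coe_toMonoidHom, MulAut.conj_apply,
    show GeneralLinearGroup.map L.subtype (GeneralLinearGroup.mkOfDetNeZero B hd) = U * g * U⁻¹ from Units.ext hB,
    ← map_inv, ← map_mul, ← map_mul]
  congr 1
  group

theorem card_fieldPGL (L : Subfield F) (U : GL (Fin 2) F) :
    Nat.card (fieldPGL L U) = Nat.card L * (Nat.card L ^ 2 - 1) := by
  classical
  haveI : Fintype L := Fintype.ofFinite _
  rw [fieldPGL, card_conj_map, ← Nat.card_congr (MonoidHom.ofInjective (map_injective_of_field L.subtype)).toEquiv,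
    card_PGL_two_eq, Nat.card_eq_fintype_card]

theorem fieldPGL_mono {L L' : Subfield F} (hle : L ≤ L') (U : GL (Fin 2) F) : fieldPGL L U ≤ fieldPGL L' U := by
  refine Subgroup.map_mono ?_
  rintro _ ⟨b, rfl⟩
  refine ⟨ProjGenLinGroup.map (Subfield.inclusion hle) b, ?_⟩
  rw [← MonoidHom.comp_apply, ← ProjGenLinGroup.map_comp]
  rfl

theorem map_fieldPSL_le (L : Subfield F) (U : GL (Fin 2) F) : (fieldPSL L U).map ι₀ ≤ fieldPGL L U := by
  rintro _ ⟨x, hx, rfl⟩
  obtain ⟨g, rfl⟩ := QuotientGroup.mk_surjective x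
  rw [ProjectiveSpecialLinearGroup.toPGL_mk]
  refine mk_mem_fieldPGL fun i j => ?_
  have := mem_fieldSL.mp (mk_mem_fieldPSL.mp hx) i j
  rw [conjSL_coe] at this
  exact this

theorem fieldPGL_le_pslIn (p : ℕ) [Fact p.Prime] [CharP F p] {n k : ℕ} (hn : Fintype.card F = p ^ n)
    (hodd : Fintype.card F % 2 = 1) (hk : k ∣ n) (he : Even (n / k)) (U : GL (Fin 2) F) :
    fieldPGL (fixField p k) U ≤ pslIn F := by
  haveI := Subgroup.normal_of_index_eq_two (index_pslIn (F := F) hodd)
  have hp := (Fact.out : p.Prime)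
  have hp2 : p % 2 = 1 := by
    rcases hp.eq_two_or_odd with rfl | e
    · have h2 : 2 ∣ Fintype.card F := Cfsg.Lib.Linear.Two.dvd_card 2
      omega
    · exact e
  rintro _ ⟨_, ⟨b, rfl⟩, rfl⟩
  refine Subgroup.Normal.conj_mem inferInstance _ ?_ _
  induction b using Matrix.ProjGenLinGroup.induction_on with | mk B => ?_
  rw [ProjGenLinGroup.map_mk, mk_mem_pslIn_iff]
  set x : F := ((GeneralLinearGroup.map (fixField (F := F) p k).subtype B : GL (Fin 2) F) :
    Matrix (Fin 2) (Fin 2) F).det with hx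
  have hx0 : x ≠ 0 := (GeneralLinearGroup.det (GeneralLinearGroup.map (fixField (F := F) p k).subtype B)).ne_zero
  have hxk : x ^ p ^ k = x := by
    have : x = (fixField (F := F) p k).subtype (B : Matrix (Fin 2) (Fin 2) _).det := by
      rw [hx]
      exact ((fixField (F := F) p k).subtype.map_det _).symm
    rw [this]
    exact (mem_fixField p).mp (Subtype.prop _)
  have hpk : p ^ k % 2 = 1 := by rw [Nat.pow_mod, hp2, one_pow]; rfl
  have hx1 : x ^ (p ^ k - 1) = 1 := by
    refine mul_left_cancel₀ hx0 ?_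
    rw [← pow_succ', Nat.sub_add_cancel (by omega : 1 ≤ p ^ k), hxk, mul_one]
  rw [FiniteField.isSquare_iff (by rw [ringChar.eq F p]; omega) hx0]
  obtain ⟨c, hc⟩ : p ^ k - 1 ∣ Fintype.card F / 2 := by
    obtain ⟨l, hl⟩ := he
    have hnk : n = k * (l + l) := by rw [← hl, Nat.mul_div_cancel' hk]
    have h1 : (p ^ k) ^ 2 - 1 ∣ ((p ^ k) ^ 2) ^ l - 1 := by
      simpa using Nat.sub_dvd_pow_sub_pow ((p ^ k) ^ 2) 1 l
    rw [show ((p ^ k) ^ 2) ^ l = Fintype.card F by rw [hn, hnk, ← pow_mul, ← pow_mul]; ring_nf,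
      show (p ^ k) ^ 2 - 1 = (p ^ k + 1) * (p ^ k - 1) by rw [← Nat.sq_sub_sq, one_pow]] at h1
    obtain ⟨c, hc⟩ := (Nat.mul_dvd_mul_right (show 2 ∣ p ^ k + 1 by omega) _).trans h1
    refine ⟨c, ?_⟩
    rw [mul_assoc] at hc
    omega
  rw [hc, pow_mul, hx1, one_pow]

/-- A maximal subgroup in a subfield group. -/
theorem PGLMaxSub.subfield {M : Subgroup (Matrix.ProjGenLinGroup (Fin 2) F)} (h : PGLMaxSub M) (p : ℕ)
    [Fact p.Prime] [CharP F p] {n k : ℕ} (hn : Fintype.card F = p ^ n) (hk : k ∣ n) (hlt : k < n)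
    (U : GL (Fin 2) F) (hle : M ≤ fieldPGL (fixField p k) U) :
    Nat.card M = p ^ k * ((p ^ k) ^ 2 - 1) ∧ (n / k).Prime ∧ Odd (n / k) := by
  have hp := (Fact.out : p.Prime)
  have hk0 : 0 < k := Nat.pos_of_dvd_of_pos hk (by omega)
  have hmono : ∀ a b : ℕ, a < b → p ^ a * ((p ^ a) ^ 2 - 1) < p ^ b * ((p ^ b) ^ 2 - 1) := by
    intro a b hab
    have h1 : p ^ a < p ^ b := Nat.pow_lt_pow_right hp.one_lt hab
    have h2 : 1 ≤ p ^ a := Nat.one_le_pow _ _ hp.pos
    have h3 : (p ^ a) ^ 2 < (p ^ b) ^ 2 := Nat.pow_lt_pow_left h1 two_ne_zero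
    have h4 : 1 ≤ (p ^ a) ^ 2 := Nat.one_le_pow _ _ h2
    exact Nat.mul_lt_mul_of_le_of_lt h1.le (by omega) (by omega)
  have heq : ∀ d, k ∣ d → d ∣ n → d < n → M = fieldPGL (fixField p d) U := by
    intro d hkd hd hdn
    have hle' : M ≤ fieldPGL (fixField p d) U :=
      hle.trans (fieldPGL_mono (fun x hx => fixField_mono p hkd hx) U)
    rcases eq_or_lt_of_le hle' with e | e
    · exact e
    · exfalso
      have hc := card_fieldPGL (fixField (F := F) p d) U
      rw [h.coatom.2 _ e, Subgroup.card_top, card_PGL_two_eq, card_fixField p hn hd, hn] at hc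
      exact (hmono d n hdn).ne' hc
  have hcard : Nat.card M = p ^ k * ((p ^ k) ^ 2 - 1) := by
    rw [heq k dvd_rfl hk hlt, card_fieldPGL, card_fixField p hn hk]
  have hprime : (n / k).Prime := by
    obtain ⟨m, hm⟩ := hk
    have hm1 : m ≠ 1 := by rintro rfl; omega
    rw [hm, Nat.mul_div_cancel_left _ hk0]
    obtain ⟨a, ha, c, hc⟩ := Nat.exists_prime_and_dvd hm1
    by_contra hnp
    have hc1 : 1 < c := by
      rcases (show c = 0 ∨ c = 1 ∨ 1 < c by omega) with e | e | e
      · rw [e, mul_zero] at hc; subst hc; omega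
      · rw [e, mul_one] at hc; exact absurd (hc ▸ ha) hnp
      · exact e
    have hka : k * a < n := by
      rw [hm, hc]
      exact Nat.mul_lt_mul_of_pos_left (lt_mul_of_one_lt_right ha.pos hc1) hk0
    have hkan : k * a ∣ n := ⟨c, by rw [hm, hc, mul_assoc]⟩
    have e := card_fieldPGL (fixField (F := F) p (k * a)) U
    rw [← heq (k * a) (dvd_mul_right _ _) hkan hka, card_fixField p hn hkan, hcard] at e
    exact (hmono k (k * a) (lt_mul_of_one_lt_right hk0 ha.one_lt)).ne e
  refine ⟨hcard, hprime, ?_⟩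
  rcases Nat.even_or_odd (n / k) with he | ho
  · exact absurd (hle.trans (fieldPGL_le_pslIn p hn h.odd hk he U)) h.not_le_pslIn
  · exact ho

/-- The maximal subgroups isomorphic to `S₄`. -/
theorem PGLMaxSub.perm_four {M : Subgroup (Matrix.ProjGenLinGroup (Fin 2) F)} (h : PGLMaxSub M) (p : ℕ)
    [Fact p.Prime] [CharP F p] {n : ℕ} (hn : Fintype.card F = p ^ n) (hn0 : 0 < n)
    (e : M ≃* Equiv.Perm (Fin 4)) :
    NoNormalCyclic (pslPart M) ∧ ((Fintype.card F = p ∧ (p % 8 = 3 ∨ p % 8 = 5)) ∨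
      ∃ r : ℕ, r.Prime ∧ Odd r ∧ Fintype.card F = 3 ^ r) := by
  classical
  have h2F : (2 : F) ≠ 0 := two_ne_zero_of_odd h.odd
  -- the special part is the alternating group
  have hA : ((pslIn F).subgroupOf M).map e.toMonoidHom = alternatingGroup (Fin 4) :=
    Equiv.Perm.eq_alternatingGroup_of_index_eq_two ((Subgroup.index_map_equiv _ e).trans h.index_subgroupOf)
  let e₀ : pslPart M ≃* alternatingGroup (Fin 4) :=
    (pslPartEquiv M).trans ((e.subgroupMap _).trans (MulEquiv.subgroupCongr hA))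
  have hsign : ∀ u : M, (u : PGL2) ∈ pslIn F ↔ Equiv.Perm.sign (e u) = 1 := by
    intro u
    rw [← Equiv.Perm.mem_alternatingGroup, ← hA]
    rw [show (e u : Equiv.Perm (Fin 4)) = e.toMonoidHom u from rfl,
      Subgroup.mem_map_iff_mem (f := e.toMonoidHom) e.injective, Subgroup.mem_subgroupOf]
  refine ⟨noNormalCyclic_congr e₀ noNormalCyclic_alternating_four, ?_⟩
  -- two is not a square
  have hns : ¬ IsSquare (2 : F) := by
    intro hsq
    let c4 : Equiv.Perm (Fin 4) := finRotate 4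
    obtain ⟨g, hg⟩ := ProjGenLinGroup.mk_surjective ((e.symm c4 : M) : PGL2)
    have hzL : ProjGenLinGroup.mk g ∉ pslIn F := by
      rw [hg, hsign, e.apply_symm_apply]; decide
    have hz2 : ProjGenLinGroup.mk (g * g) ≠ 1 := by
      rw [map_mul, hg]
      intro e'
      have : c4 * c4 = 1 := by
        have := congrArg e (Subtype.ext e' : (e.symm c4 * e.symm c4 : M) = 1)
        rwa [map_mul, e.apply_symm_apply, map_one] at this
      exact absurd this (by decide)
    have hz4 : ProjGenLinGroup.mk ((g * g) * (g * g)) = 1 := by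
      rw [map_mul, map_mul, hg, ← Subgroup.coe_mul, ← Subgroup.coe_mul, ← map_mul, ← map_mul,
        show c4 * c4 * (c4 * c4) = 1 by decide, map_one, Subgroup.coe_one]
    set G : Matrix (Fin 2) (Fin 2) F := (g : Matrix (Fin 2) (Fin 2) F) with hG
    rw [ProjGenLinGroup.mk_eq_one, GeneralLinearGroup.center_eq_range_scalar] at hz4
    obtain ⟨s, hs⟩ := hz4
    have hs' : ∀ i j, ((G * G) * (G * G)) i j = (Matrix.scalar (Fin 2) (s : F)) i j := fun i j => by
      have := congrArg (fun z : GL (Fin 2) F => (z : Matrix (Fin 2) (Fin 2) F) i j) hs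
      simpa [GeneralLinearGroup.coe_scalar] using this.symm
    have e01 := hs' 0 1
    have e10 := hs' 1 0
    have e00 := hs' 0 0
    have e11 := hs' 1 1
    generalize hH : G * G = H at e01 e10 e00 e11
    simp [Matrix.mul_apply, Fin.sum_univ_two] at e01 e10 e00 e11
    have htr : H 0 0 + H 1 1 = 0 := by
      by_contra hne
      refine hz2 ?_
      rw [ProjGenLinGroup.mk_eq_one, GeneralLinearGroup.center_eq_range_scalar]
      have h01 : H 0 1 = 0 := by
        refine (mul_eq_zero.mp (show H 0 1 * (H 0 0 + H 1 1) = 0 by linear_combination e01)).resolve_right hne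
      have h10 : H 1 0 = 0 := by
        refine (mul_eq_zero.mp (show H 1 0 * (H 0 0 + H 1 1) = 0 by linear_combination e10)).resolve_right hne
      have h00 : H 1 1 = H 0 0 := by
        refine (sub_eq_zero.mp ((mul_eq_zero.mp (show (H 0 0 - H 1 1) * (H 0 0 + H 1 1) = 0 by
          linear_combination e00 - e11)).resolve_right hne)).symm
      have hH0 : H 0 0 ≠ 0 := by
        intro e0
        refine hne ?_
        rw [h00, e0, add_zero]
      refine ⟨Units.mk0 _ hH0, Units.ext ?_⟩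
      rw [Units.val_mul, ← hG, hH, GeneralLinearGroup.coe_scalar]
      ext i j
      fin_cases i <;> fin_cases j <;> simp [h01, h10, h00]
    refine hzL ((mk_mem_pslIn_iff g).mpr ?_)
    obtain ⟨r, hr⟩ := hsq
    refine ⟨(G 0 0 + G 1 1) / r, ?_⟩
    have hr0 : r ≠ 0 := fun e' => h2F (by rw [hr, e', mul_zero])
    rw [← hG, Matrix.det_fin_two]
    rw [← hH] at htr
    simp [Matrix.mul_apply, Fin.sum_univ_two] at htr
    field_simp
    linear_combination (G 0 0 * G 1 1 - G 0 1 * G 1 0) * hr.symm - htr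
  -- coordinates of the four-group
  let a : alternatingGroup (Fin 4) := ⟨vA, Equiv.Perm.mem_alternatingGroup.mpr vA_vB.1.2⟩
  let b : alternatingGroup (Fin 4) := ⟨vB, Equiv.Perm.mem_alternatingGroup.mpr vA_vB.2.1.2⟩
  obtain ⟨hVA, hVB, va, vb, vab, va1, vb1, vne⟩ := vA_vB
  obtain ⟨x, y, hxdef, hydef, hxM, hyM, hx2, hy2, hxy, hx1, hy1, hne⟩ := exists_four_points e₀ a b (Subtype.ext va)
    (Subtype.ext vb) (Subtype.ext vab) (fun h => va1 (congrArg Subtype.val h))
    (fun h => vb1 (congrArg Subtype.val h)) (fun h => vne (congrArg Subtype.val h))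
  have htr : ∀ g : SL2, (QuotientGroup.mk g : PSL2) ∈ pslPart M → g 0 0 + g 1 1 ∈ fixField p 1 := by
    intro g hg
    refine trace_exponent_two_three p 1 ?_
    have hs := (sign_four_exponents (e₀ ⟨_, hg⟩ : alternatingGroup (Fin 4))).1
      (Equiv.Perm.mem_alternatingGroup.mp (e₀ ⟨_, hg⟩).2)
    exact hs.imp (fun h => back_pow e₀ hg (Subtype.ext h)) (fun h => back_pow e₀ hg (Subtype.ext h))
  obtain ⟨U, hU, i, j, a', b', hij, hUi, hUj⟩ :=
    entries_of_four_group (fixField p 1) h2F hxM hyM hx2 hy2 hxy hx1 hy1 hne htr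
  let A : GL (Fin 2) F := GeneralLinearGroup.mkOfDetNeZero !![1, -1; 1, 1] (by
    simp [Matrix.det_fin_two]; rw [one_add_one_eq_two]; exact h2F)
  set z₀ : PGL2 := ProjGenLinGroup.mk (U⁻¹ * A * U) with hz₀
  let I' : GL (Fin 2) F := SpecialLinearGroup.toGL i
  let J' : GL (Fin 2) F := SpecialLinearGroup.toGL j
  have hI : ((U * I' * U⁻¹ : GL (Fin 2) F) : Matrix (Fin 2) (Fin 2) F) = !![0, -1; 1, 0] :=
    ((conjSL_coe U i).symm).trans hUi
  have hJ : ((U * J' * U⁻¹ : GL (Fin 2) F) : Matrix (Fin 2) (Fin 2) F) = !![a', b'; b', -a'] :=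
    ((conjSL_coe U j).symm).trans hUj
  have hcI : A * (U * I' * U⁻¹) = (U * I' * U⁻¹) * A := by
    apply Units.ext
    rw [Units.val_mul A, Units.val_mul _ A, hI]
    show (!![1, -1; 1, 1] : Matrix (Fin 2) (Fin 2) F) * !![0, -1; 1, 0] = !![0, -1; 1, 0] * !![1, -1; 1, 1]
    rw [Matrix.mul_fin_two, Matrix.mul_fin_two]
    simp
  have hcJ : A * (U * J' * U⁻¹) = (U * I' * U⁻¹) * (U * J' * U⁻¹) * A := by
    apply Units.ext
    rw [Units.val_mul A, Units.val_mul _ A, Units.val_mul (U * I' * U⁻¹), hI, hJ]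
    show (!![1, -1; 1, 1] : Matrix (Fin 2) (Fin 2) F) * !![a', b'; b', -a'] =
      !![0, -1; 1, 0] * !![a', b'; b', -a'] * !![1, -1; 1, 1]
    rw [Matrix.mul_fin_two, Matrix.mul_fin_two, Matrix.mul_fin_two]
    ext k l
    fin_cases k <;> fin_cases l <;> simp <;> ring
  set X : PGL2 := ProjGenLinGroup.mk I' with hX
  set Y : PGL2 := ProjGenLinGroup.mk J' with hY
  have hzX : z₀ * X * z₀⁻¹ = X := by
    rw [hz₀, hX, ← map_inv, ← map_mul, ← map_mul]
    congr 1
    calc U⁻¹ * A * U * I' * (U⁻¹ * A * U)⁻¹ = U⁻¹ * (A * (U * I' * U⁻¹)) * A⁻¹ * U := by group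
      _ = I' := by rw [hcI]; group
  have hzY : z₀ * Y * z₀⁻¹ = X * Y := by
    rw [hz₀, hX, hY, ← map_inv, ← map_mul, ← map_mul, ← map_mul]
    congr 1
    calc U⁻¹ * A * U * J' * (U⁻¹ * A * U)⁻¹ = U⁻¹ * (A * (U * J' * U⁻¹)) * A⁻¹ * U := by group
      _ = I' * J' := by rw [hcJ]; group
  -- the four-group of `M`
  set W : Subgroup PGL2 := (fourFour.comap e.toMonoidHom).map M.subtype with hW
  have hWgen : W = Subgroup.closure {X, Y} := by
    have hXY : ({X, Y} : Set PGL2) = {((e.symm vA : M) : PGL2), ((e.symm vB : M) : PGL2)} := by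
      have hx' : ι₀ x = ((e.symm vA : M) : PGL2) := by
        have h1 := congrArg Subtype.val (e₀.apply_symm_apply a)
        rw [show ι₀ x = ((⟨ι₀ ((e₀.symm a : pslPart M) : PSL2), (e₀.symm a).2⟩ : M) : PGL2) by rw [hxdef]]
        refine congrArg Subtype.val ?_
        rw [← e.symm_apply_apply (⟨_, (e₀.symm a).2⟩ : M)]
        exact congrArg e.symm h1
      have hy' : ι₀ y = ((e.symm vB : M) : PGL2) := by
        have h1 := congrArg Subtype.val (e₀.apply_symm_apply b)
        rw [show ι₀ y = ((⟨ι₀ ((e₀.symm b : pslPart M) : PSL2), (e₀.symm b).2⟩ : M) : PGL2) by rw [hydef]]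
        refine congrArg Subtype.val ?_
        rw [← e.symm_apply_apply (⟨_, (e₀.symm b).2⟩ : M)]
        exact congrArg e.symm h1
      rw [← hx', ← hy', hX, hY, ← ProjectiveSpecialLinearGroup.toPGL_mk, ← ProjectiveSpecialLinearGroup.toPGL_mk]
      rcases hij with ⟨h1, h2⟩ | ⟨h1, h2⟩ <;> rw [h1, h2]
      exact Set.pair_comm _ _
    rw [hXY]
    refine le_antisymm ?_ ((Subgroup.closure_le _).mpr ?_)
    · rintro _ ⟨u, hu, rfl⟩
      have hu' : e u * e u = 1 ∧ Equiv.Perm.sign (e u) = 1 := hu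
      rcases fourFour_cases _ hu'.1 hu'.2 with h' | h' | h' | h'
      · rw [show u = 1 from e.injective (h'.trans (map_one e).symm)]; exact Subgroup.one_mem _
      · rw [show u = e.symm vA by rw [← h', e.symm_apply_apply]]; exact Subgroup.subset_closure (Or.inl rfl)
      · rw [show u = e.symm vB by rw [← h', e.symm_apply_apply]]; exact Subgroup.subset_closure (Or.inr rfl)
      · rw [show u = e.symm vA * e.symm vB by rw [← map_mul, ← h', e.symm_apply_apply]]
        exact Subgroup.mul_mem _ (Subgroup.subset_closure (Or.inl rfl)) (Subgroup.subset_closure (Or.inr rfl))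
    · rintro _ (rfl | rfl)
      · exact ⟨e.symm vA, by show e (e.symm vA) ∈ fourFour; rw [e.apply_symm_apply]; exact hVA, rfl⟩
      · exact ⟨e.symm vB, by show e (e.symm vB) ∈ fourFour; rw [e.apply_symm_apply]; exact hVB, rfl⟩
  have hWN : Subgroup.normalizer (W : Set PGL2) = M := by
    refine h.normalizer_eq ?_ ?_ ?_ fun m hm => mem_normalizer_of_conj_mem ?_
    · rintro _ ⟨u, hu, rfl⟩
      exact (hsign u).mpr (show e u ∈ fourFour from hu).2
    · intro hb
      have : ((e.symm vA : M) : PGL2) ∈ W :=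
        ⟨e.symm vA, by show e (e.symm vA) ∈ fourFour; rw [e.apply_symm_apply]; exact hVA, rfl⟩
      rw [hb, Subgroup.mem_bot] at this
      exact va1 (e.symm.injective ((Subtype.ext this).trans (map_one _).symm))
    · intro hb
      exact h.not_le (hb ▸ Subgroup.map_subtype_le _)
    · rintro _ ⟨u, hu, rfl⟩
      exact ⟨⟨m, hm⟩ * u * ⟨m, hm⟩⁻¹, Subgroup.Normal.conj_mem inferInstance u hu _, rfl⟩
  have hzM : z₀ ∈ M := by
    rw [← hWN]
    refine mem_normalizer_of_conj_mem ?_
    rw [hWgen]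
    intro z hz
    induction hz using Subgroup.closure_induction with
    | mem z hz =>
      rcases hz with rfl | rfl
      · rw [hzX]; exact Subgroup.subset_closure (Or.inl rfl)
      · rw [hzY]
        exact Subgroup.mul_mem _ (Subgroup.subset_closure (Or.inl rfl)) (Subgroup.subset_closure (Or.inr rfl))
    | one => simp
    | mul z w _ _ hz hw =>
      have := Subgroup.mul_mem _ hz hw
      rwa [show z₀ * z * z₀⁻¹ * (z₀ * w * z₀⁻¹) = z₀ * (z * w) * z₀⁻¹ by group] at this
    | inv z _ hz =>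
      have := Subgroup.inv_mem _ hz
      rwa [show (z₀ * z * z₀⁻¹)⁻¹ = z₀ * z⁻¹ * z₀⁻¹ by group] at this
  have hzL : z₀ ∉ pslIn F := by
    rw [hz₀, mk_mem_pslIn_iff, Units.val_mul, Units.val_mul, Matrix.det_units_conj']
    show ¬ IsSquare (!![1, -1; 1, 1] : Matrix (Fin 2) (Fin 2) F).det
    rw [Matrix.det_fin_two_of]
    norm_num [hns]
  have hzX' : z₀ ∈ fieldPGL (fixField p 1) U := by
    refine mk_mem_fieldPGL fun r t => ?_
    rw [show U * (U⁻¹ * A * U) * U⁻¹ = A by group]
    show (!![1, -1; 1, 1] : Matrix (Fin 2) (Fin 2) F) r t ∈ fixField p 1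
    fin_cases r <;> fin_cases t <;> simp [Subfield.one_mem, Subfield.neg_mem]
  have hle : M ≤ fieldPGL (fixField p 1) U := by
    intro m hm
    have hin : ∀ w ∈ M, w ∈ pslIn F → w ∈ fieldPGL (fixField p 1) U := by
      rintro _ hw ⟨g', rfl⟩
      obtain ⟨g, rfl⟩ := QuotientGroup.mk_surjective g'
      exact map_fieldPSL_le _ _ (Subgroup.mem_map_of_mem _ (mk_mem_fieldPSL.mpr (mem_fieldSL.mpr (hU g hw))))
    by_cases hmL : m ∈ pslIn F
    · exact hin m hm hmL
    · have := Subgroup.mul_mem _ hzX' (hin (z₀⁻¹ * m) (M.mul_mem (M.inv_mem hzM) hm) (by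
        rw [Subgroup.mul_mem_iff_of_index_two h.index_two, inv_mem_iff]
        exact iff_of_false hzL hmL))
      rwa [mul_inv_cancel_left] at this
  by_cases hn1 : n = 1
  · left
    subst hn1
    rw [pow_one] at hn
    refine ⟨hn, ?_⟩
    rw [FiniteField.isSquare_two_iff, hn] at hns
    omega
  · right
    obtain ⟨hc, hpr, hod⟩ := h.subfield p hn (one_dvd n) (by omega) U hle
    rw [card_target_perm e, pow_one] at hc
    obtain rfl : p = 3 := by
      have hp := (Fact.out : p.Prime)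
      rcases Nat.lt_or_ge p 4 with h' | h'
      · have := hp.two_le
        rcases (show p = 2 ∨ p = 3 by omega) with rfl | rfl
        · norm_num at hc
        · rfl
      · have h1 := Nat.pow_le_pow_left h' 2
        have := Nat.mul_le_mul h' (show 15 ≤ p ^ 2 - 1 by omega)
        omega
    rw [Nat.div_one] at hpr hod
    exact ⟨n, hpr, hod, hn⟩

theorem card_fixField_le (p : ℕ) [Fact p.Prime] [CharP F p] {k : ℕ} (hk : k ≠ 0) :
    Nat.card (fixField (F := F) p k) ≤ p ^ k := by
  classical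
  have hp := (Fact.out : p.Prime)
  haveI : Fintype (fixField (F := F) p k) := Fintype.ofFinite _
  rw [Nat.card_eq_fintype_card]
  set P : Polynomial F := Polynomial.X ^ p ^ k - Polynomial.X
  have hdeg : P.natDegree = p ^ k := FiniteField.X_pow_card_pow_sub_X_natDegree_eq F hk hp.one_lt
  have hP : P ≠ 0 := fun h => by
    rw [h, Polynomial.natDegree_zero] at hdeg
    exact (pow_pos hp.pos k).ne hdeg
  have hsub : (Finset.univ.map ⟨((↑) : fixField (F := F) p k → F), Subtype.val_injective⟩) ⊆ P.roots.toFinset := by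
    intro x hx
    obtain ⟨y, -, rfl⟩ := Finset.mem_map.mp hx
    rw [Multiset.mem_toFinset, Polynomial.mem_roots hP]
    simp [P, sub_eq_zero, (mem_fixField p).mp y.2]
  have h := (Finset.card_le_card hsub).trans (P.roots.toFinset_card_le.trans P.card_roots')
  rwa [Finset.card_map, Finset.card_univ, hdeg] at h

theorem eq_range_toPGL_of_index_two {K : Type*} [Field K] [Fintype K] (h4 : 4 ≤ Fintype.card K)
    (hodd : Fintype.card K % 2 = 1) (H : Subgroup (Matrix.ProjGenLinGroup (Fin 2) K)) (hH : H.index = 2) :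
    H = pslIn K := by
  haveI := isSimpleGroup_psl_two (F := K) h4
  haveI := Subgroup.normal_of_index_eq_two hH
  rcases IsSimpleGroup.eq_bot_or_eq_top_of_normal (H.comap (ProjectiveSpecialLinearGroup.toPGL (R := K)))
    inferInstance with e | e
  · exfalso
    have hd : (H.comap (ProjectiveSpecialLinearGroup.toPGL (R := K))).index ∣ H.index := by
      rw [Subgroup.index_comap]
      exact Subgroup.relIndex_dvd_index_of_normal _ _
    rw [e, Subgroup.index_bot, hH] at hd
    have := Nat.le_of_dvd two_pos hd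
    have := Nat.le_of_dvd Nat.card_pos (four_dvd_card_psl_two (F := K) h4)
    omega
  · refine (Subgroup.eq_of_le_of_card_ge ?_ ?_).symm
    · rintro _ ⟨g, rfl⟩
      exact (show g ∈ H.comap ProjectiveSpecialLinearGroup.toPGL from e ▸ Subgroup.mem_top g)
    · have h1 := Subgroup.card_mul_index H
      have h2 := Subgroup.card_mul_index (pslIn K)
      rw [hH] at h1
      rw [index_pslIn hodd] at h2
      omega

/-- The maximal subgroups isomorphic to `PGL(2, q₀)`. -/
theorem PGLMaxSub.field {M : Subgroup (Matrix.ProjGenLinGroup (Fin 2) F)} (h : PGLMaxSub M) (p : ℕ)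
    [Fact p.Prime] [CharP F p] {n : ℕ} (hn : Fintype.card F = p ^ n)
    {K : Type*} [Field K] [Fintype K] [CharP K p] (h4 : 4 ≤ Fintype.card K) {m : ℕ}
    (hm : Fintype.card K ^ m = Fintype.card F ^ 2) (e : M ≃* Matrix.ProjGenLinGroup (Fin 2) K) :
    NoNormalCyclic (pslPart M) ∧ ∃ r : ℕ, r.Prime ∧ Odd r ∧ Fintype.card F = Fintype.card K ^ r := by
  have hp := (Fact.out : p.Prime)
  obtain ⟨k, -, hk⟩ := FiniteField.card K p
  have hKodd : Fintype.card K % 2 = 1 := by
    by_contra hh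
    have hm0 : m ≠ 0 := by
      rintro rfl
      have h5 := Nat.pow_le_pow_left h.ge_five 2
      simp at hm
      omega
    have h2 := dvd_pow (show 2 ∣ Fintype.card K by omega) hm0
    have := h.odd
    rw [hm, Nat.prime_two.dvd_iff_not_coprime] at h2
    refine h2 (Nat.Coprime.pow_right 2 ?_)
    rw [Nat.coprime_two_left, Nat.odd_iff]; exact h.odd
  have hH := eq_range_toPGL_of_index_two h4 hKodd _
    ((Subgroup.index_map_equiv ((pslIn F).subgroupOf M) e).trans h.index_subgroupOf)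
  let e₀ : pslPart M ≃* Matrix.ProjectiveSpecialLinearGroup (Fin 2) K :=
    (pslPartEquiv M).trans ((e.subgroupMap _).trans ((MulEquiv.subgroupCongr hH).trans
      (MonoidHom.ofInjective ProjectiveSpecialLinearGroup.toPGL_injective).symm))
  refine ⟨noNormalCyclic_congr e₀ (noNormalCyclic_psl (by omega)), ?_⟩
  have hc0 : 2 * Nat.card (pslPart M) = p ^ (k : ℕ) * ((p ^ (k : ℕ)) ^ 2 - 1) := by
    rw [Nat.card_congr e₀.toEquiv, card_psl_mul hKodd, hk]
  have hpM : p ∣ Nat.card (pslPart M) := by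
    have h1 : p ∣ 2 * Nat.card (pslPart M) := hc0 ▸ (dvd_pow_self p k.pos.ne').mul_right _
    refine (hp.dvd_mul.mp h1).resolve_left fun h2 => ?_
    obtain rfl := (Nat.prime_dvd_prime_iff_eq hp Nat.prime_two).mp h2
    have h2' : 2 ∣ Fintype.card F := Cfsg.Lib.Linear.Two.dvd_card 2
    have := h.odd
    omega
  have hN : ¬ ∃ P : Sylow p PSL2, pslPart M ≤ Subgroup.normalizer ((P : Subgroup PSL2) : Set PSL2) :=
    fun ⟨P, hP⟩ => not_le_normalizer_of_sylow p (sylow_not_normal_congr e₀ (sylow_not_normal_psl p)) P hP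
  obtain ⟨U, hU⟩ := entries_of_transvections p (fixField p k) hpM hN fun g hg =>
    trace_mem_of_iso_psl p hk (by rw [← hk, hKodd, h.odd]) e₀ hg
  have hle : pslPart M ≤ fieldPSL (fixField p k) U := by
    intro z hz
    obtain ⟨g, rfl⟩ := QuotientGroup.mk_surjective z
    exact mk_mem_fieldPSL.mpr (mem_fieldSL.mpr (hU g hz))
  set L := fixField (F := F) p k with hL
  have hcL := card_fieldPSL L U
  rw [Nat.gcd_eq_left (show 2 ∣ Fintype.card F - 1 by have := h.odd; omega)] at hcL
  have hLk : Nat.card L = p ^ (k : ℕ) := by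
    refine le_antisymm (card_fixField_le p k.pos.ne') ?_
    by_contra hlt
    push Not at hlt
    have h1 := Nat.mul_le_mul_left 2 (Subgroup.card_le_of_le hle)
    rw [hc0, hcL] at h1
    have h3 : Nat.card L ^ 2 - 1 ≤ (p ^ (k : ℕ)) ^ 2 - 1 :=
      Nat.sub_le_sub_right (Nat.pow_le_pow_left hlt.le 2) 1
    have h8 : 0 < (p ^ (k : ℕ)) ^ 2 - 1 := by
      have := Nat.pow_le_pow_left (show 2 ≤ p ^ (k : ℕ) from hp.two_le.trans (Nat.le_self_pow k.pos.ne' p)) 2
      omega
    exact absurd (h1.trans (Nat.mul_le_mul_left _ h3)) (Nat.not_le.mpr (Nat.mul_lt_mul_of_pos_right hlt h8))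
  haveI : Fintype L := Fintype.ofFinite _
  obtain ⟨j, hj⟩ : ∃ j, Fintype.card F = (p ^ (k : ℕ)) ^ j :=
    ⟨_, by rw [← hLk, Nat.card_eq_fintype_card]; exact Module.card_eq_pow_finrank⟩
  have hkn : (k : ℕ) ∣ n := ⟨j, Nat.pow_right_injective hp.two_le (by simp only; rw [← hn, hj, pow_mul])⟩
  have hNeq : pslPart M = fieldPSL L U := by
    refine Subgroup.eq_of_le_of_card_ge hle (le_of_eq ?_)
    refine Nat.eq_of_mul_eq_mul_left two_pos ?_
    rw [hcL, hc0, hLk]
  have hklt : (k : ℕ) < n := by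
    refine lt_of_le_of_ne (Nat.le_of_dvd (Nat.pos_of_ne_zero ?_) hkn) fun e' => h.pslPart_ne_top ?_
    · rintro rfl
      have := h.ge_five
      rw [hn, pow_zero] at this
      omega
    · refine Subgroup.eq_top_of_card_eq _ (Nat.eq_of_mul_eq_mul_left two_pos ?_)
      rw [hc0, card_psl_mul h.odd, hn, e']
  have hXc : Nat.card (fieldPGL L U) = Nat.card M := by
    rw [card_fieldPGL, h.card_eq, hc0, hLk]
  have hle' : (pslPart M).map ι₀ ≤ fieldPGL L U := hNeq ▸ map_fieldPSL_le L U
  have hnormal : fieldPGL L U ≤ Subgroup.normalizer ((pslPart M).map ι₀ : Set PGL2) := by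
    refine (Subgroup.normal_subgroupOf_iff_le_normalizer hle').mp (Subgroup.normal_of_index_eq_two ?_)
    have h1 := Subgroup.card_mul_index (((pslPart M).map ι₀).subgroupOf (fieldPGL L U))
    rw [Nat.card_congr (Subgroup.subgroupOfEquivOfLe hle').toEquiv, hXc, h.card_eq, mul_comm 2,
      ← Nat.card_congr ((pslPart M).equivMapOfInjective ι₀ ProjectiveSpecialLinearGroup.toPGL_injective).toEquiv]
      at h1
    exact Nat.eq_of_mul_eq_mul_left Nat.card_pos h1
  have hne : pslPart M ≠ ⊥ := fun e' => by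
    rw [e', Subgroup.card_bot] at hpM
    exact hp.not_dvd_one hpM
  rw [(h.normalizer_image hne h.pslPart_ne_top h.normal_part_le_normalizer).1] at hnormal
  have hMX : M = fieldPGL L U := (Subgroup.eq_of_le_of_card_ge hnormal hXc.ge).symm
  obtain ⟨-, hpr, hod⟩ := h.subfield p hn hkn hklt U hMX.le
  refine ⟨n / k, hpr, hod, ?_⟩
  rw [hn, hk, ← pow_mul, Nat.mul_div_cancel' hkn]

end Cfsg.Lib.Dickson
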